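import Mathlib
import Groth.Prelude.Def_CAlg2

set_option autoImplicit false
set_option backward.isDefEq.respectTransparency false
set_option backward.defeqAttrib.useBackward true
set_option linter.style.haveILetI false

/-!
# Étale algebras over geometrically unibranch local rings
-/

open TensorProduct

universe u

namespace Groth.Agent.Unibranch

/-- In an integrally closed subring of a reduced Artinian ring every prime has a least prime
below it. -/
theorem exists_least_prime {T : Type u} [CommRing T] [IsReduced T] [IsArtinianRing T]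
    {B : Type u} [CommRing B] [Algebra B T] (Q : Ideal (integralClosure B T)) [Q.IsPrime] :
    ∃ p : Ideal (integralClosure B T), p.IsPrime ∧ p ≤ Q ∧
      ∀ P : Ideal (integralClosure B T), P.IsPrime → P ≤ Q → p ≤ P := by
  classical
  haveI := Fintype.ofFinite (MaximalSpectrum T)
  let E := IsArtinianRing.equivPi T
  let e : MaximalSpectrum T → T := fun I => E.symm (Pi.single I 1)
  have hmem : ∀ I, e I ∈ integralClosure B T := fun I => by
    have h : e I * e I = e I := by
      rw [← map_mul, ← Pi.single_mul, one_mul]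
    exact ⟨Polynomial.X * (Polynomial.X - Polynomial.C 1),
      Polynomial.monic_X.mul (Polynomial.monic_X_sub_C 1), by simp [mul_sub, h]⟩
  have hsum : ∑ I, (⟨e I, hmem I⟩ : integralClosure B T) = 1 := by
    apply Subtype.ext
    rw [AddSubmonoidClass.coe_finsetSum]
    show ∑ I, E.symm (Pi.single I 1) = 1
    rw [← map_sum, Finset.univ_sum_single (fun _ => (1 : _))]
    exact map_one E.symm
  obtain ⟨I, hI⟩ : ∃ I, (⟨e I, hmem I⟩ : integralClosure B T) ∉ Q := by
    by_contra! h
    exact Ideal.IsPrime.ne_top ‹_› ((Ideal.eq_top_iff_one Q).mpr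
      (hsum ▸ Ideal.sum_mem Q fun I _ => h I))
  have hle : ∀ P : Ideal (integralClosure B T), P.IsPrime → P ≤ Q →
      I.asIdeal.comap (integralClosure B T).val ≤ P := by
    intro P hP hPQ x hx
    have h0 : x * ⟨e I, hmem I⟩ = 0 := by
      apply Subtype.ext
      show (x : T) * E.symm (Pi.single I 1) = 0
      apply E.injective
      rw [map_mul, E.apply_symm_apply, map_zero]
      funext J
      rcases eq_or_ne J I with rfl | hJ
      · have : E (x : T) J = 0 := Ideal.Quotient.eq_zero_iff_mem.mpr hx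
        simp [this]
      · simp [Pi.single_eq_of_ne hJ]
    exact (hP.mem_or_mem (h0 ▸ P.zero_mem)).resolve_right fun h => hI (hPQ h)
  exact ⟨_, Ideal.comap_isPrime _ _, hle Q ‹_› le_rfl, hle⟩

variable {A B : Type u} [CommRing A] [CommRing B] [Algebra A B]

/-- The normalisation comparison: kernel is nil. -/
theorem isNilpotent_of_tmul_eq_zero [Module.Flat A B] [IsDomain (CAlg2.red A)] (b : B)
    (h : b ⊗ₜ[A] (1 : FractionRing (CAlg2.red A)) = 0) : IsNilpotent b := by
  have hinj := Module.Flat.lTensor_preserves_injective_linearMap (M := B)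
    (IsScalarTower.toAlgHom A (CAlg2.red A) (FractionRing (CAlg2.red A))).toLinearMap
    (IsFractionRing.injective (CAlg2.red A) (FractionRing (CAlg2.red A)))
  have h1 : b ⊗ₜ[A] (1 : CAlg2.red A) = 0 := by
    apply hinj
    rw [map_zero, LinearMap.lTensor_tmul]
    show b ⊗ₜ[A] (algebraMap (CAlg2.red A) (FractionRing (CAlg2.red A)) 1) = 0
    rw [map_one, h]
  have h2 : b ∈ (nilradical A).map (algebraMap A B) := by
    have h3 := congrArg (TensorProduct.tensorQuotEquivQuotSMul B (nilradical A)) h1
    rw [map_zero] at h3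
    have h4 : TensorProduct.tensorQuotEquivQuotSMul B (nilradical A)
        (b ⊗ₜ[A] Ideal.Quotient.mk (nilradical A) 1) = Submodule.Quotient.mk ((1 : A) • b) :=
      TensorProduct.tensorQuotEquivQuotSMul_tmul_mk (nilradical A) b 1
    rw [map_one, h3, one_smul] at h4
    have h5 := (Submodule.Quotient.mk_eq_zero _).mp h4.symm
    rwa [Ideal.smul_top_eq_map, Submodule.restrictScalars_mem] at h5
  exact (Ideal.map_le_iff_le_comap.mpr fun a ha =>
    Ideal.mem_comap.mpr (mem_nilradical.mpr ((mem_nilradical.mp ha).map (algebraMap A B)))) h2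

/-- The identification of the two integral closures. -/
theorem mem_normRed_iff [IsDomain (CAlg2.red A)] (x : FractionRing (CAlg2.red A)) :
    x ∈ integralClosure (CAlg2.red A) (FractionRing (CAlg2.red A)) ↔
      x ∈ integralClosure A (FractionRing (CAlg2.red A)) := by
  rw [_root_.mem_integralClosure_iff, _root_.mem_integralClosure_iff]
  refine ⟨fun h => ?_, fun h => h.tower_top⟩
  haveI : Algebra.IsIntegral A (CAlg2.red A) :=
    ⟨RingHom.IsIntegral.of_finite (RingHom.Finite.of_surjective _ Ideal.Quotient.mk_surjective)⟩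
  exact isIntegral_trans _ h

/-- A prime of an integral algebra gives a point in the algebraic closure of the residue field
below it. -/
theorem exists_point_of_isIntegral {B N : Type u} [CommRing B] [CommRing N] [Algebra B N]
    [Algebra.IsIntegral B N] (q : Ideal B) [q.IsPrime] (Q : Ideal N) [Q.IsPrime]
    (hQ : Q.comap (algebraMap B N) = q) :
    ∃ σ : N →+* AlgebraicClosure q.ResidueField, RingHom.ker σ = Q ∧
      σ.comp (algebraMap B N) = algebraMap B (AlgebraicClosure q.ResidueField) := by
  haveI : Q.LiesOver q := ⟨hQ.symm⟩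
  letI := Localization.AtPrime.algebraOfLiesOver q Q
  haveI : Algebra.IsIntegral q.ResidueField Q.ResidueField := inferInstance
  let f : Q.ResidueField →ₐ[q.ResidueField] AlgebraicClosure q.ResidueField := IsAlgClosed.lift
  refine ⟨f.toRingHom.comp (algebraMap N Q.ResidueField), ?_, ?_⟩
  · ext x
    show f (algebraMap N Q.ResidueField x) = 0 ↔ x ∈ Q
    exact (map_eq_zero_iff _ (RingHom.injective f.toRingHom)).trans
      Ideal.algebraMap_residueField_eq_zero
  · ext b
    show f (algebraMap N Q.ResidueField (algebraMap B N b)) = _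
    rw [← IsScalarTower.algebraMap_apply, IsScalarTower.algebraMap_apply B q.ResidueField
      Q.ResidueField, f.commutes, ← IsScalarTower.algebraMap_apply]

theorem ker_le_nilradical [Module.Flat A B] [IsDomain (CAlg2.red A)] :
    RingHom.ker (algebraMap B (integralClosure B (B ⊗[A] FractionRing (CAlg2.red A)))) ≤
      nilradical B := fun b hb => by
  refine mem_nilradical.mpr (isNilpotent_of_tmul_eq_zero (A := A) b ?_)
  have h2 := congrArg (integralClosure B (B ⊗[A] FractionRing (CAlg2.red A))).val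
    (RingHom.mem_ker.mp hb)
  rw [AlgHom.commutes, map_zero, Algebra.TensorProduct.algebraMap_apply,
    Algebra.algebraMap_self_apply] at h2
  exact h2

/-- Lifting a chain of two primes through an integral map with nil kernel. -/
theorem exists_lift_of_isIntegral {B N : Type u} [CommRing B] [CommRing N] [Algebra B N]
    [Algebra.IsIntegral B N] (hker : RingHom.ker (algebraMap B N) ≤ nilradical B)
    (P : Ideal B) (hP : P ∈ minimalPrimes B) (q : Ideal B) [q.IsPrime] (hPq : P ≤ q) :
    ∃ (R Q : Ideal N), R.IsPrime ∧ Q.IsPrime ∧ R ≤ Q ∧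
      R.comap (algebraMap B N) = P ∧ Q.comap (algebraMap B N) = q := by
  haveI := hP.1.1
  obtain ⟨R, -, hR, hRP⟩ := Ideal.exists_ideal_over_prime_of_isIntegral P (⊥ : Ideal N)
    (le_trans hker (nilradical_le_prime P))
  obtain ⟨Q, hRQ, hQ, hQq⟩ := Ideal.exists_ideal_over_prime_of_isIntegral q R (hRP ▸ hPq)
  exact ⟨R, Q, hR, hQ, hRQ, hRP, hQq⟩

set_option maxHeartbeats 800000 in
/-- A geometrically unibranch local ring has a unique minimal prime in every étale neighbourhood. -/
theorem existsUnique_minimal_of_etale [IsLocalRing A] (hA : CAlg2.IsGeomUnibranch A)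
    [Algebra.Etale A B] (q : Ideal B) [q.IsPrime]
    (hq : q.comap (algebraMap A B) = IsLocalRing.maximalIdeal A)
    (P₁ P₂ : Ideal B) (h₁ : P₁ ∈ minimalPrimes B) (h₂ : P₂ ∈ minimalPrimes B)
    (h₁q : P₁ ≤ q) (h₂q : P₂ ≤ q) : P₁ = P₂ := by
  obtain ⟨⟨_, _⟩, hpi⟩ := hA
  let K := FractionRing (CAlg2.red A)
  let T := B ⊗[A] K
  let N := integralClosure B T
  let j := TensorProduct.toIntegralClosure A B K
  have hj : Function.Surjective j :=
    (TensorProduct.toIntegralClosure_bijective_of_smooth (R := A) (S := B) (B := K)).2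
  let e := (Algebra.TensorProduct.comm A K B).toRingEquiv
  haveI : Module.Finite K (K ⊗[A] B) := Algebra.FormallyUnramified.finite_of_free K _
  haveI : IsArtinianRing (K ⊗[A] B) := IsArtinianRing.of_finite K _
  haveI : IsReduced (K ⊗[A] B) := Algebra.FormallyUnramified.isReduced_of_field K _
  haveI : IsArtinianRing T := e.surjective.isArtinianRing (f := e.toRingHom)
  haveI : IsReduced T := isReduced_of_injective e.symm e.symm.injective
  haveI : Algebra.IsIntegral B N := ⟨fun x => (isIntegral_algHom_iff N.val Subtype.val_injective).mp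
    ((mem_integralClosure_iff B T).mp x.2)⟩
  -- at most one prime over q
  have huniq : ∀ Q₁ Q₂ : Ideal N, Q₁.IsPrime → Q₂.IsPrime → Q₁.comap (algebraMap B N) = q →
      Q₂.comap (algebraMap B N) = q → Q₁ = Q₂ := by
    let Ω := AlgebraicClosure q.ResidueField
    have hσ : ∀ Q : Ideal N, Q.IsPrime → Q.comap (algebraMap B N) = q →
        ∃ σ : N →+* Ω, RingHom.ker σ = Q ∧
          σ.comp (algebraMap B N) = algebraMap B Ω :=
      fun Q _ hQ => exists_point_of_isIntegral (N := N) q Q hQ
    intro Q₁ Q₂ hp₁ hp₂ hc₁ hc₂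
    obtain ⟨σ₁, hk₁, hB₁⟩ := hσ Q₁ hp₁ hc₁
    obtain ⟨σ₂, hk₂, hB₂⟩ := hσ Q₂ hp₂ hc₂
    suffices σ₁ = σ₂ by rw [← hk₁, ← hk₂, this]
    let ι : CAlg2.normRed A →+* integralClosure A K :=
      { toFun := fun x => ⟨x.1, (mem_normRed_iff x.1).mp x.2⟩
        map_one' := rfl, map_mul' := fun _ _ => rfl, map_zero' := rfl, map_add' := fun _ _ => rfl }
    let inc : integralClosure A K →+* N :=
      j.toRingHom.comp (Algebra.TensorProduct.includeRight (R := A) (A := B)).toRingHom
    have hincA : ∀ a, inc (algebraMap A _ a) = algebraMap B N (algebraMap A B a) := by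
      intro a
      show j (1 ⊗ₜ algebraMap A (integralClosure A K) a) = _
      rw [← Algebra.TensorProduct.includeRight_apply, AlgHom.commutes,
        IsScalarTower.algebraMap_apply A B (B ⊗[A] integralClosure A K), AlgHom.commutes]
    let g : A →+* CAlg2.normRed A :=
      (algebraMap (CAlg2.red A) (CAlg2.normRed A)).comp (Ideal.Quotient.mk (nilradical A))
    let τ : ∀ σ : N →+* Ω, CAlg2.normRed A →+* Ω := fun σ => (σ.comp inc).comp ι
    have hτg : ∀ σ : N →+* Ω, σ.comp (algebraMap B N) = algebraMap B Ω → ∀ a,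
        τ σ (g a) = algebraMap B Ω (algebraMap A B a) := by
      intro σ hσB a
      show σ (inc (ι (g a))) = _
      rw [show ι (g a) = algebraMap A (integralClosure A K) a from rfl, hincA, ← RingHom.comp_apply,
        hσB]
    have hmax : ∀ σ : N →+* Ω, σ.comp (algebraMap B N) = algebraMap B Ω →
        (RingHom.ker (τ σ)).IsMaximal := by
      intro σ hσB
      haveI := RingHom.ker_isPrime (τ σ)
      haveI : Algebra.IsIntegral (CAlg2.red A) (CAlg2.normRed A) :=
        ⟨fun x => (isIntegral_algHom_iff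
          (integralClosure (CAlg2.red A) K).val Subtype.val_injective).mp x.2⟩
      refine Ideal.isMaximal_of_isIntegral_of_isMaximal_comap (R := CAlg2.red A) _ ?_
      set P := Ideal.comap (algebraMap (CAlg2.red A) (CAlg2.normRed A)) (RingHom.ker (τ σ))
      haveI hPp : P.IsPrime := Ideal.comap_isPrime _ _
      suffices hP : P.comap (Ideal.Quotient.mk (nilradical A)) = IsLocalRing.maximalIdeal A by
        rw [← Ideal.map_comap_of_surjective (Ideal.Quotient.mk (nilradical A))
          Ideal.Quotient.mk_surjective P, hP]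
        refine (Ideal.map_eq_top_or_isMaximal_of_surjective _ Ideal.Quotient.mk_surjective
          (IsLocalRing.maximalIdeal.isMaximal A)).resolve_left fun h => hPp.ne_top ?_
        rwa [← hP, Ideal.map_comap_of_surjective _ Ideal.Quotient.mk_surjective] at h
      rw [← hq]
      ext a
      show τ σ (g a) = 0 ↔ algebraMap A B a ∈ q
      rw [hτg σ hσB, IsScalarTower.algebraMap_apply B q.ResidueField Ω,
        map_eq_zero_iff _ (algebraMap q.ResidueField Ω).injective,
        Ideal.algebraMap_residueField_eq_zero]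
    have hm₁ := hmax σ₁ hB₁
    have hker : RingHom.ker (τ σ₁) = RingHom.ker (τ σ₂) :=
      (IsLocalRing.eq_maximalIdeal hm₁).trans (IsLocalRing.eq_maximalIdeal (hmax σ₂ hB₂)).symm
    haveI := hm₁
    let t₁ := Ideal.Quotient.lift (RingHom.ker (τ σ₁)) (τ σ₁) fun _ h => h
    let t₂ := Ideal.Quotient.lift (RingHom.ker (τ σ₁)) (τ σ₂) fun _ h => hker.le h
    have htA : ∀ x : CAlg2.normRed A, τ σ₁ x = τ σ₂ x := by
      intro x
      letI : Field (CAlg2.normRed A ⧸ RingHom.ker (τ σ₁)) := Ideal.Quotient.field _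
      let p := ringExpChar (CAlg2.normRed A ⧸ RingHom.ker (τ σ₁))
      haveI : ExpChar (CAlg2.normRed A ⧸ RingHom.ker (τ σ₁)) p := ringExpChar.expChar _
      haveI : ExpChar Ω p := expChar_of_injective_ringHom t₁.injective p
      obtain ⟨n, a, ha⟩ := hpi (RingHom.ker (τ σ₁)) (Ideal.Quotient.mk _ x)
      have h1 := congrArg t₁ ha
      have h2 := congrArg t₂ ha
      rw [map_pow] at h1 h2
      change τ σ₁ (g a) = τ σ₁ x ^ p ^ n at h1
      change τ σ₂ (g a) = τ σ₂ x ^ p ^ n at h2
      rw [hτg σ₁ hB₁] at h1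
      rw [hτg σ₂ hB₂] at h2
      exact iterateFrobenius_inj Ω p n (h1.symm.trans h2)
    refine RingHom.ext fun z => ?_
    obtain ⟨w, rfl⟩ := hj z
    induction w with
    | zero => rw [map_zero, map_zero, map_zero]
    | add x y hx hy => rw [map_add, map_add, map_add, hx, hy]
    | tmul b x =>
      have hbx : j (b ⊗ₜ x) = algebraMap B N b * inc x := by
        rw [← Algebra.smul_def]
        show j (b ⊗ₜ x) = b • j (1 ⊗ₜ x)
        rw [← map_smul, TensorProduct.smul_tmul', smul_eq_mul, mul_one]
      have hx : σ₁ (inc x) = σ₂ (inc x) :=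
        htA ⟨x.1, (mem_normRed_iff (A := A) x.1).mpr x.2⟩
      rw [hbx, map_mul, map_mul, hx,
        show σ₁ (algebraMap B N b) = algebraMap B Ω b from RingHom.congr_fun hB₁ b,
        show σ₂ (algebraMap B N b) = algebraMap B Ω b from RingHom.congr_fun hB₂ b]
  -- minimal primes below q
  have hker : RingHom.ker (algebraMap B N) ≤ nilradical B := ker_le_nilradical (A := A)
  have hlift : ∀ P ∈ minimalPrimes B, P ≤ q → ∃ (R Q : Ideal N), R.IsPrime ∧ Q.IsPrime ∧ R ≤ Q ∧
      R.comap (algebraMap B N) = P ∧ Q.comap (algebraMap B N) = q :=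
    fun P hP hPq => by
      refine exists_lift_of_isIntegral (B := B) (N := N) ?_ P hP q hPq
      intro b hb
      exact hker (RingHom.mem_ker.mpr (RingHom.mem_ker.mp hb))
  obtain ⟨R₁, Q₁, hR₁, hQ₁, hle₁, hP₁, hq₁⟩ := hlift P₁ h₁ h₁q
  obtain ⟨R₂, Q₂, hR₂, hQ₂, hle₂, hP₂, hq₂⟩ := hlift P₂ h₂ h₂q
  obtain rfl := huniq Q₁ Q₂ hQ₁ hQ₂ hq₁ hq₂
  obtain ⟨p, hp, -, hpmin⟩ := exists_least_prime Q₁
  have h : ∀ P ∈ minimalPrimes B, ∀ R : Ideal N, R.IsPrime → R ≤ Q₁ →
      R.comap (algebraMap B N) = P → P = p.comap (algebraMap B N) := fun P hP R hR hRQ hRP => by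
    have hle : p.comap (algebraMap B N) ≤ P := hRP ▸ Ideal.comap_mono (hpmin R hR hRQ)
    haveI := hp
    exact le_antisymm (hP.2 ⟨Ideal.comap_isPrime _ _, bot_le⟩ hle) hle
  rw [h P₁ h₁ R₁ hR₁ hle₁ hP₁, h P₂ h₂ R₂ hR₂ hle₂ hP₂]

end Groth.Agent.Unibranch
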