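import Mathlib
import Groth.Agent.EtaleSplit.Weighting
import Groth.Agent.EtaleSplit.Nbhd
import Groth.Agent.Unibranch.Etale

set_option autoImplicit false
set_option backward.isDefEq.respectTransparency false
set_option backward.defeqAttrib.useBackward true
set_option linter.style.haveILetI false

/-!
# Quasi-finite morphisms to geometrically unibranch schemes are universally open
-/

open CategoryTheory CategoryTheory.Limits AlgebraicGeometry Topology TensorProduct

universe u

namespace Groth.Agent.Unibranch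

open EtaleSplit (pt)

theorem locallyQuasiFinite_of_etale {X Y : Scheme.{u}} (g : X ⟶ Y) [Etale g] :
    LocallyQuasiFinite g := by
  rw [HasRingHomProperty.iff_appLE (P := @LocallyQuasiFinite)]
  intro U V e
  algebraize [(g.appLE U V e).hom]
  haveI : Algebra.Etale Γ(Y, U) Γ(X, V) :=
    RingHom.etale_algebraMap.mp (g.etale_appLE U.2 V.2 e)
  exact RingHom.quasiFinite_algebraMap.mpr inferInstance

/-- Minimal primes below a prime of an étale algebra lying over a geometrically unibranch prime. -/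
theorem minimal_unique_of_localization {R S : Type u} [CommRing R] [CommRing S] [Algebra R S]
    [Algebra.Etale R S] (p : Ideal R) [p.IsPrime] (A : Type u) [CommRing A] [Algebra R A]
    [IsLocalization.AtPrime A p] [IsLocalRing A] (hA : CAlg2.IsGeomUnibranch A)
    (q : Ideal S) [q.IsPrime] (hq : q.comap (algebraMap R S) = p)
    (P₁ P₂ : Ideal S) (h₁ : P₁ ∈ minimalPrimes S) (h₂ : P₂ ∈ minimalPrimes S)
    (h₁q : P₁ ≤ q) (h₂q : P₂ ≤ q) : P₁ = P₂ := by
  letI : Algebra S (A ⊗[R] S) := Algebra.TensorProduct.rightAlgebra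
  let M := Algebra.algebraMapSubmonoid S p.primeCompl
  haveI : IsLocalization M (A ⊗[R] S) := IsLocalization.tensorRight A p.primeCompl
  have hdq : Disjoint (M : Set S) (q : Set S) := by
    rw [Set.disjoint_left]
    rintro _ ⟨a, ha, rfl⟩ h
    exact ha (hq ▸ h)
  have hd : ∀ P : Ideal S, P ≤ q → Disjoint (M : Set S) (P : Set S) := fun P hP =>
    hdq.mono_right hP
  have hcm : ∀ P : Ideal S, P.IsPrime → P ≤ q →
      (P.map (algebraMap S (A ⊗[R] S))).comap (algebraMap S (A ⊗[R] S)) = P := fun P hP hPq =>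
    IsLocalization.under_map_of_isPrime_disjoint M (A ⊗[R] S) hP (hd P hPq)
  have hmc : ∀ P : Ideal (A ⊗[R] S),
      (P.comap (algebraMap S (A ⊗[R] S))).map (algebraMap S (A ⊗[R] S)) = P := fun P =>
    IsLocalization.map_under M (A ⊗[R] S) P
  have hmin : ∀ P ∈ minimalPrimes S, P ≤ q →
      P.map (algebraMap S (A ⊗[R] S)) ∈ minimalPrimes (A ⊗[R] S) := by
    intro P hP hPq
    haveI := hP.1.1
    haveI := IsLocalization.isPrime_of_isPrime_disjoint M (A ⊗[R] S) P ‹_› (hd P hPq)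
    refine ⟨⟨‹_›, bot_le⟩, fun P' hP' hle => ?_⟩
    haveI := hP'.1
    have h := Ideal.comap_mono (f := algebraMap S (A ⊗[R] S)) hle
    rw [hcm P hP.1.1 hPq] at h
    rw [← hmc P']
    exact Ideal.map_mono (hP.2 ⟨Ideal.comap_isPrime _ _, bot_le⟩ h)
  haveI := IsLocalization.isPrime_of_isPrime_disjoint M (A ⊗[R] S) q ‹_› hdq
  have hqA : (q.map (algebraMap S (A ⊗[R] S))).comap (algebraMap A (A ⊗[R] S)) =
      IsLocalRing.maximalIdeal A := by
    have h : ((q.map (algebraMap S (A ⊗[R] S))).comap (algebraMap A (A ⊗[R] S))).comap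
        (algebraMap R A) = p := by
      rw [Ideal.comap_comap, ← IsScalarTower.algebraMap_eq, ← hq,
        IsScalarTower.algebraMap_eq R S (A ⊗[R] S), ← Ideal.comap_comap,
        hcm q ‹_› le_rfl]
    refine (IsLocalization.map_under p.primeCompl A _).symm.trans ?_
    exact (congrArg (Ideal.map (algebraMap R A)) h).trans
      (IsLocalization.AtPrime.map_eq_maximalIdeal p A)
  have h := existsUnique_minimal_of_etale hA (q.map (algebraMap S (A ⊗[R] S))) hqA _ _
    (hmin P₁ h₁ h₁q) (hmin P₂ h₂ h₂q) (Ideal.map_mono h₁q) (Ideal.map_mono h₂q)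
  have h' := congrArg (Ideal.comap (algebraMap S (A ⊗[R] S))) h
  haveI := h₁.1.1
  haveI := h₂.1.1
  rwa [hcm P₁ h₁.1.1 h₁q, hcm P₂ h₂.1.1 h₂q] at h'

/-- The points of an affine open and the primes of its sections. -/
theorem primeIdealOf_le_iff {T : Scheme.{u}} {U : T.Opens} (hU : IsAffineOpen U) (a b : U) :
    (hU.primeIdealOf a).asIdeal ≤ (hU.primeIdealOf b).asIdeal ↔ a.1 ⤳ b.1 := by
  rw [PrimeSpectrum.asIdeal_le_asIdeal, PrimeSpectrum.le_iff_specializes]
  exact hU.fromSpec.isOpenEmbedding.isInducing.specializes_iff.symm.trans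
    (by rw [hU.fromSpec_primeIdealOf, hU.fromSpec_primeIdealOf])

theorem exists_point_of_prime {T : Scheme.{u}} {U : T.Opens} (hU : IsAffineOpen U)
    (P : Ideal Γ(T, U)) (hP : P.IsPrime) : ∃ a : U, (hU.primeIdealOf a).asIdeal = P := by
  refine ⟨⟨hU.fromSpec ⟨P, hP⟩, ?_⟩, ?_⟩
  · have : hU.fromSpec ⟨P, hP⟩ ∈ Set.range hU.fromSpec := ⟨_, rfl⟩
    rwa [hU.range_fromSpec] at this
  · exact congrArg PrimeSpectrum.asIdeal (hU.fromSpec.isOpenEmbedding.injective
      (hU.fromSpec_primeIdealOf _))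

theorem mem_minimalPrimes_primeIdealOf {T : Scheme.{u}} {U : T.Opens} (hU : IsAffineOpen U)
    (a : U) (hmax : ∀ η' : T, η' ⤳ a.1 → η' = a.1) :
    (hU.primeIdealOf a).asIdeal ∈ minimalPrimes Γ(T, U) := by
  refine ⟨⟨(hU.primeIdealOf a).isPrime, bot_le⟩, fun P hP hle => ?_⟩
  obtain ⟨b, rfl⟩ := exists_point_of_prime hU P hP.1
  exact le_of_eq (congrArg (fun c => (hU.primeIdealOf c).asIdeal)
    (Subtype.ext (hmax b.1 ((primeIdealOf_le_iff hU b a).mp hle)).symm))

/-- Étale over a geometrically unibranch point: a maximal generalisation has a dense-open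
closure. -/
theorem eventually_specializes_of_finite {T Y : Scheme.{u}} (g : T ⟶ Y) [Etale g]
    (hfin : ∀ (W : Y.Opens) (U : T.Opens), IsAffineOpen W → IsAffineOpen U → U ≤ g ⁻¹ᵁ W →
      (minimalPrimes Γ(T, U)).Finite)
    (t : T) (hY : CAlg2.IsGeomUnibranch (Y.presheaf.stalk (g t))) (η : T) (hη : η ⤳ t)
    (hmax : ∀ η' : T, η' ⤳ η → η' = η) : ∀ᶠ x in 𝓝 t, η ⤳ x := by
  obtain ⟨_, ⟨W : Y.Opens, hW, rfl⟩, hyW, -⟩ :=
    Y.isBasis_affineOpens.exists_subset_of_mem_open (Set.mem_univ (g t)) isOpen_univ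
  obtain ⟨_, ⟨U : T.Opens, hU, rfl⟩, htU, hUW⟩ :=
    T.isBasis_affineOpens.exists_subset_of_mem_open (a := t) (u := ↑(g ⁻¹ᵁ W)) hyW (g ⁻¹ᵁ W).2
  algebraize [(g.appLE W U hUW).hom]
  haveI : Algebra.Etale Γ(Y, W) Γ(T, U) :=
    RingHom.etale_algebraMap.mp (g.etale_appLE hW hU hUW)
  letI := Y.presheaf.algebra_section_stalk ⟨g t, hyW⟩
  haveI := hW.isLocalization_stalk ⟨g t, hyW⟩
  have hηU : η ∈ U := hη.mem_open U.2 htU
  have hqp : (hU.primeIdealOf ⟨t, htU⟩).asIdeal.comap (algebraMap Γ(Y, W) Γ(T, U)) =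
      (hW.primeIdealOf ⟨g t, hyW⟩).asIdeal :=
    congr($(IsAffineOpen.comap_primeIdealOf_appLE W hW U hU hUW htU).1)
  let P₀ := (hU.primeIdealOf ⟨η, hηU⟩).asIdeal
  have hP₀ : P₀ ∈ minimalPrimes Γ(T, U) := mem_minimalPrimes_primeIdealOf hU ⟨η, hηU⟩ hmax
  have hP₀t : P₀ ≤ (hU.primeIdealOf ⟨t, htU⟩).asIdeal := (primeIdealOf_le_iff hU _ _).mpr hη
  have huniq : ∀ P ∈ minimalPrimes Γ(T, U), P ≤ (hU.primeIdealOf ⟨t, htU⟩).asIdeal → P = P₀ :=
    fun P hP hPt => minimal_unique_of_localization (hW.primeIdealOf ⟨g t, hyW⟩).asIdeal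
      (Y.presheaf.stalk (g t)) hY _ hqp P P₀ hP hP₀ hPt hP₀t
  let C : Set T := ⋃ P ∈ {P ∈ minimalPrimes Γ(T, U) | P ≠ P₀},
    hU.fromSpec '' PrimeSpectrum.zeroLocus (P : Set Γ(T, U))
  have hopen : IsOpen ((U : Set T) \ C) := by
    have h : ((U : Set T) \ C) = hU.fromSpec '' (⋃ P ∈ {P ∈ minimalPrimes Γ(T, U) | P ≠ P₀},
        PrimeSpectrum.zeroLocus (P : Set Γ(T, U)))ᶜ := by
      rw [Set.image_compl_eq_range_sdiff_image hU.fromSpec.isOpenEmbedding.injective,
        hU.range_fromSpec]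
      simp only [C, Set.image_iUnion]
    rw [h]
    refine hU.fromSpec.isOpenEmbedding.isOpenMap _ (isOpen_compl_iff.mpr ?_)
    exact ((hfin W U hW hU hUW).subset
      fun _ hP => hP.1).isClosed_biUnion fun P _ => PrimeSpectrum.isClosed_zeroLocus _
  have ht : t ∈ (U : Set T) \ C := by
    refine ⟨htU, fun h => ?_⟩
    simp only [C, Set.mem_iUnion] at h
    obtain ⟨P, hP, z, hz, hzt⟩ := h
    have hz' : z = hU.primeIdealOf ⟨t, htU⟩ := hU.fromSpec.isOpenEmbedding.injective
      (hzt.trans (hU.fromSpec_primeIdealOf ⟨t, htU⟩).symm)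
    exact hP.2 (huniq P hP.1 (hz' ▸ hz))
  filter_upwards [hopen.mem_nhds ht] with x ⟨hxU, hxC⟩
  refine (primeIdealOf_le_iff hU ⟨η, hηU⟩ ⟨x, hxU⟩).mp ?_
  haveI := (hU.primeIdealOf ⟨x, hxU⟩).isPrime
  obtain ⟨P, hP, hPx⟩ := Ideal.exists_minimalPrimes_le
    (bot_le : (⊥ : Ideal Γ(T, U)) ≤ (hU.primeIdealOf ⟨x, hxU⟩).asIdeal)
  rcases eq_or_ne P P₀ with rfl | hne
  · exact hPx
  · exact absurd (Set.mem_biUnion (show P ∈ {P ∈ minimalPrimes Γ(T, U) | P ≠ P₀} from ⟨hP, hne⟩)
      (show x ∈ hU.fromSpec '' PrimeSpectrum.zeroLocus (P : Set Γ(T, U)) from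
        ⟨_, hPx, hU.fromSpec_primeIdealOf ⟨x, hxU⟩⟩)) hxC

theorem eventually_specializes {T Y : Scheme.{u}} (g : T ⟶ Y) [Etale g] [IsLocallyNoetherian T]
    (t : T) (hY : CAlg2.IsGeomUnibranch (Y.presheaf.stalk (g t))) (η : T) (hη : η ⤳ t)
    (hmax : ∀ η' : T, η' ⤳ η → η' = η) : ∀ᶠ x in 𝓝 t, η ⤳ x :=
  eventually_specializes_of_finite g (fun _ U _ hU _ => by
    haveI : IsNoetherianRing Γ(T, U) := IsLocallyNoetherian.component_noetherian ⟨U, hU⟩
    exact minimalPrimes.finite_of_isNoetherianRing Γ(T, U)) t hY η hη hmax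

/-- Universal openness from the splitting data. -/
theorem universallyOpen_of_split {X Y : Scheme.{u}} (f : X ⟶ Y) [LocallyQuasiFinite f]
    [LocallyOfFiniteType f]
    (H : ∀ (T : Scheme.{u}) (g : T ⟶ Y), Etale g → ∀ (V : (pullback f g).Opens),
      IsFinite (V.ι ≫ pullback.snd f g) → ∀ v, v ∈ V →
        (∀ w, w ∈ V → pullback.snd f g w = pullback.snd f g v → w = v) →
        pullback.snd f g '' (V : Set ↑(pullback f g)) ∈ 𝓝 (pullback.snd f g v)) :
    UniversallyOpen f := by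
  constructor
  intro X' Y' h g₀ f' hc'
  have hc : IsPullback h f' f g₀ := hc'.flip
  haveI : LocallyQuasiFinite f' := MorphismProperty.of_isPullback hc ‹_›
  haveI : LocallyOfFiniteType f' := MorphismProperty.of_isPullback hc ‹_›
  intro O' hO'
  rw [isOpen_iff_mem_nhds]
  rintro _ ⟨x', hx', rfl⟩
  let q' := EtaleSplit.geomPt (f' x')
  have hq' : f' x' = pt q' := by rw [EtaleSplit.pt_geomPt]
  obtain ⟨p', hp'⟩ := EtaleSplit.exists_gpt f' q' x' hq'
  let p : EtaleSplit.GPts f (q' ≫ g₀) := ⟨p'.1 ≫ h, by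
    rw [Category.assoc, hc.w, ← Category.assoc, p'.2]⟩
  obtain ⟨T, g, qT, hqT, V, hg, hV, -, hmem, huniq⟩ :=
    EtaleSplit.exists_split_one f (q' ≫ g₀) p ⊤ trivial (f.quasiFiniteAt _)
  obtain ⟨hv, -, hvu, -⟩ := EtaleSplit.split_point_facts f g (q' ≫ g₀) qT hqT p V hmem huniq
  have himg := H T g hg V hV _ hmem fun w hw he => hvu w hw (he.trans hv)
  rw [hv] at himg
  let T' := pullback g₀ g
  let qT' : Spec (.of _) ⟶ T' := pullback.lift q' qT hqT.symm
  let g' : T' ⟶ Y' := pullback.fst g₀ g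
  haveI : Etale g' := inferInstanceAs (Etale (pullback.fst g₀ g))
  let π : pullback f' g' ⟶ pullback f g :=
    pullback.map f' g' f g h (pullback.snd g₀ g) g₀ hc.w.symm pullback.condition
  have hπ : IsPullback π (pullback.snd f' g') (pullback.snd f g) (pullback.snd g₀ g) := by
    have h₁ : IsPullback (pullback.fst f' g' ≫ h) (pullback.snd f' g') f (g' ≫ g₀) :=
      (IsPullback.of_hasPullback f' g').paste_horiz hc
    rw [show g' ≫ g₀ = pullback.snd g₀ g ≫ g from pullback.condition] at h₁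
    exact IsPullback.of_right (by rwa [show π ≫ pullback.fst f g = pullback.fst f' g' ≫ h from
      pullback.lift_fst _ _ _]) (pullback.lift_snd _ _ _) (IsPullback.of_hasPullback f g)
  haveI := hV
  haveI : IsFinite ((π ⁻¹ᵁ V).ι ≫ pullback.snd f' g') := EtaleSplit.isFinite_preimage hπ V
  have hfib : ∀ z, z ∈ π ⁻¹ᵁ V → pullback.snd f' g' z = pt qT' →
      pullback.fst f' g' z ∈ O' := by
    intro z hz hzt
    obtain ⟨r, hr⟩ := EtaleSplit.exists_gpt (pullback.snd f' g') qT' z hzt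
    have h2 : (r.1 ≫ π) ≫ pullback.snd f g = qT := by
      rw [Category.assoc, hπ.w, ← Category.assoc, r.2, pullback.lift_snd]
    have h3 : r.1 ≫ π = pullback.lift p.1 qT (p.2.trans hqT.symm) :=
      huniq ⟨r.1 ≫ π, h2⟩ (by rw [EtaleSplit.pt_comp, hr]; exact hz)
    have h4 : r.1 ≫ pullback.fst f' g' = p'.1 := by
      refine hc.hom_ext ?_ ?_
      · rw [Category.assoc, show pullback.fst f' g' ≫ h = π ≫ pullback.fst f g from
          (pullback.lift_fst _ _ _).symm, ← Category.assoc, h3, pullback.lift_fst]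
      · rw [Category.assoc, pullback.condition, ← Category.assoc, r.2, pullback.lift_fst, p'.2]
    rw [← hr, ← EtaleSplit.pt_comp, h4, hp']
    exact hx'
  have hev := EtaleSplit.eventually_forall_of_fibre (pullback.snd f' g') (π ⁻¹ᵁ V)
    (pullback.fst f' g' ⁻¹' O') (hO'.preimage (pullback.fst f' g').continuous) (pt qT') hfib
  have hpt : pullback.snd g₀ g (pt qT') = pt qT := by
    rw [← EtaleSplit.pt_comp, pullback.lift_snd]
  have hN : ∀ᶠ z in 𝓝 (pt qT'), pullback.snd g₀ g z ∈ pullback.snd f g '' (V : Set _) :=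
    (pullback.snd g₀ g).continuous.continuousAt.preimage_mem_nhds (by rw [hpt]; exact himg)
  have himage : g' '' {z | g' z ∈ f' '' O'} ∈ 𝓝 (f' x') := by
    rw [hq', show pt q' = g' (pt qT') by rw [← EtaleSplit.pt_comp, pullback.lift_fst]]
    refine g'.isOpenMap.image_mem_nhds ?_
    filter_upwards [hev, hN] with z hz ⟨a, ha, haz⟩
    obtain ⟨c, hc1, hc2⟩ := Scheme.exists_preimage_of_isPullback hπ a z haz
    refine ⟨pullback.fst f' g' c, hz c (by show π c ∈ V; rw [hc1]; exact ha) hc2, ?_⟩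
    rw [← Scheme.Hom.comp_apply, pullback.condition, Scheme.Hom.comp_apply, hc2]
  exact Filter.mem_of_superset himage (by rintro _ ⟨z, hz, rfl⟩; exact hz)

/-- Maximal points are generic points of irreducible components. -/
theorem exists_component_of_max {X : Scheme.{u}} (x : X) (hx : ∀ x', x' ⤳ x → x' = x) :
    ∃ Z ∈ irreducibleComponents ↑X, IsGenericPoint x Z := by
  refine ⟨_, irreducibleComponent_mem_irreducibleComponents x, ?_⟩
  obtain ⟨ξ, hξ⟩ := QuasiSober.sober (isIrreducible_irreducibleComponent (x := x))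
    isClosed_irreducibleComponent
  rwa [hx ξ (hξ.specializes mem_irreducibleComponent)] at hξ

theorem max_of_component {Y : Scheme.{u}} {y : Y} {W : Set ↑Y}
    (hW : W ∈ irreducibleComponents ↑Y) (hy : IsGenericPoint y W) (y' : Y) (h : y' ⤳ y) :
    y' = y := by
  have h1 : W ⊆ closure {y'} := hy ▸ closure_minimal (by simpa using h.mem_closure) isClosed_closure
  have h2 : closure {y'} ⊆ W := hW.2 isIrreducible_singleton.closure h1
  exact IsGenericPoint.eq (h2.antisymm h1) hy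

/-- A maximal generalisation. -/
theorem exists_max_specializes {X : Scheme.{u}} (x : X) :
    ∃ ξ, ξ ⤳ x ∧ ∀ ξ', ξ' ⤳ ξ → ξ' = ξ := by
  obtain ⟨ξ, hξ⟩ := QuasiSober.sober (isIrreducible_irreducibleComponent (x := x))
    isClosed_irreducibleComponent
  exact ⟨ξ, hξ.specializes mem_irreducibleComponent,
    max_of_component (irreducibleComponent_mem_irreducibleComponents x) hξ⟩

/-- A quasi-finite morphism sending maximal points to maximal points of a geometrically unibranch
locally noetherian scheme is universally open. -/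
theorem universallyOpen_of_geomUnibranch {X Y : Scheme.{u}} (f : X ⟶ Y) [LocallyQuasiFinite f]
    [LocallyOfFiniteType f] [IsLocallyNoetherian Y]
    (hY : ∀ y : Y, CAlg2.IsGeomUnibranch (Y.presheaf.stalk y))
    (hdom : ∀ Z ∈ irreducibleComponents ↑X, ∀ x : X, IsGenericPoint x Z →
      ∃ W ∈ irreducibleComponents ↑Y, IsGenericPoint (f x) W) :
    UniversallyOpen f := by
  refine universallyOpen_of_split f fun T g hg V hV v hv hvu => ?_
  haveI := hV
  haveI : IsLocallyNoetherian T := LocallyOfFiniteType.isLocallyNoetherian g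
  haveI := locallyQuasiFinite_of_etale g
  obtain ⟨ζ, hζv, hζ⟩ := exists_max_specializes v
  let η := pullback.snd f g ζ
  have hfst : ∀ x', x' ⤳ pullback.fst f g ζ → x' = pullback.fst f g ζ := by
    intro x' hx'
    obtain ⟨ζ', hζ', rfl⟩ := Flat.generalizingMap (pullback.fst f g) hx'
    rw [hζ ζ' hζ']
  obtain ⟨Z, hZ, hgen⟩ := exists_component_of_max _ hfst
  obtain ⟨W, hW, hWgen⟩ := hdom Z hZ _ hgen
  have hgη : f (pullback.fst f g ζ) = g η := by
    rw [← Scheme.Hom.comp_apply, pullback.condition, Scheme.Hom.comp_apply]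
  have hηt : η ⤳ pullback.snd f g v := hζv.map (pullback.snd f g).continuous
  have hmax : ∀ η', η' ⤳ η → η' = η := by
    intro η' h'
    have hg' : g η' = g η := by
      rw [← hgη]
      exact max_of_component hW hWgen _ (hgη ▸ h'.map g.continuous)
    haveI := isDiscrete_iff_discreteTopology.mp (g.isDiscrete_preimage_singleton (g η))
    exact congrArg Subtype.val (specializes_iff_eq.mp
      ((IsInducing.subtypeVal).specializes_iff (x := (⟨η', hg'⟩ : ↥(g ⁻¹' {g η})))
        (y := ⟨η, rfl⟩) |>.mp h'))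
  refine Filter.mem_of_superset (eventually_specializes g _ (hY _) η hηt hmax) fun x hx => ?_
  have hcl : IsClosed (pullback.snd f g '' (V : Set ↑(pullback f g))) := by
    have h1 := (V.ι ≫ pullback.snd f g).isClosedMap.isClosed_range
    have h2 : Set.range (V.ι ≫ pullback.snd f g) = pullback.snd f g '' (V : Set _) := by
      rw [← V.range_ι, ← Set.range_comp]; rfl
    rwa [h2] at h1
  exact hx.mem_closed hcl ⟨ζ, hζv.mem_open V.2 hv, rfl⟩

end Groth.Agent.Unibranch
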