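import Mathlib
import Groth.Prelude.Def_CAlg2
import Groth.Agent.RadicialLib.Basic

/-!
# Radicial normalisation and geometrically unibranch local rings
-/

set_option autoImplicit false
set_option linter.style.haveILetI false
set_option backward.isDefEq.respectTransparency false
set_option backward.defeqAttrib.useBackward true

open CategoryTheory AlgebraicGeometry IsLocalRing Groth.Agent.RadicialLib

universe u

namespace Groth.Agent.Unibranch

theorem universallyInjective_specMap_iff {R S : Type u} [CommRing R] [CommRing S] [Algebra R S] :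
    UniversallyInjective (Spec.map (CommRingCat.ofHom (algebraMap R S))) ↔ FieldEpi R S := by
  refine ((tfae_universallyInjective (Spec.map (CommRingCat.ofHom (algebraMap R S)))).out 0 1).trans
    ⟨fun h K _ f g hfg => ?_, fun h K iK a b hab => ?_⟩
  · have h1 : Spec.map (CommRingCat.ofHom f) ≫ Spec.map (CommRingCat.ofHom (algebraMap R S)) =
        Spec.map (CommRingCat.ofHom g) ≫ Spec.map (CommRingCat.ofHom (algebraMap R S)) := by
      rw [← Spec.map_comp, ← Spec.map_comp, ← CommRingCat.ofHom_comp, ← CommRingCat.ofHom_comp, hfg]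
    exact congrArg CommRingCat.Hom.hom (Spec.map_injective (h K h1))
  · obtain ⟨f, rfl⟩ := Spec.map_surjective a
    obtain ⟨g, rfl⟩ := Spec.map_surjective b
    simp only [← Spec.map_comp] at hab
    exact congrArg Spec.map (CommRingCat.hom_ext
      (@h K iK f.hom g.hom (congrArg CommRingCat.Hom.hom (Spec.map_injective hab))))

/-- The composite `R → red R → normRed R`. -/
abbrev toNormRed (R : Type u) [CommRing R] : R →+* CAlg2.normRed R :=
  (algebraMap (CAlg2.red R) (CAlg2.normRed R)).comp (Ideal.Quotient.mk (nilradical R))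

variable (A : Type u) [CommRing A] [IsDomain A] (p : Ideal A) [p.IsPrime]

theorem isDomain_red_atPrime : IsDomain (CAlg2.red (Localization.AtPrime p)) := by
  haveI : (nilradical (Localization.AtPrime p)).IsPrime := by
    rw [nilradical_eq_zero, Ideal.zero_eq_bot]
    exact Ideal.isPrime_bot
  exact Ideal.Quotient.isDomain _

/-- The normalisation of a localisation is a localisation of the normalisation. -/
theorem exists_toNormRed_atPrime :
    ∃ ι : integralClosure A (FractionRing A) →+* CAlg2.normRed (Localization.AtPrime p),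
      (∀ a : A, ι (algebraMap A _ a) = toNormRed _ (algebraMap A (Localization.AtPrime p) a)) ∧
      ∀ z, ∃ (s : A) (a' : integralClosure A (FractionRing A)), s ∉ p ∧
        toNormRed _ (algebraMap A (Localization.AtPrime p) s) * z = ι a' := by
  classical
  haveI := isDomain_red_atPrime A p
  let R := Localization.AtPrime p
  let F := FractionRing (CAlg2.red R)
  have hnil : nilradical R = ⊥ := by rw [nilradical_eq_zero, Ideal.zero_eq_bot]
  have hmk : Function.Injective (Ideal.Quotient.mk (nilradical R)) := by
    rw [RingHom.injective_iff_ker_eq_bot, Ideal.mk_ker, hnil]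
  have hAF : Function.Injective (Algebra.ofId A F) := fun a b h => by
    refine IsLocalization.injective R p.primeCompl_le_nonZeroDivisors
      (hmk (IsFractionRing.injective (CAlg2.red R) F ?_))
    have h' : algebraMap A F a = algebraMap A F b := h
    rwa [IsScalarTower.algebraMap_apply A (CAlg2.red R) F,
      IsScalarTower.algebraMap_apply A (CAlg2.red R) F] at h'
  let φ : FractionRing A →ₐ[A] F := IsFractionRing.liftAlgHom hAF
  have hcl : ∀ x : integralClosure A (FractionRing A), φ x.1 ∈ integralClosure (CAlg2.red R) F :=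
    fun x => (x.2.map φ).tower_top
  let ι : integralClosure A (FractionRing A) →+* CAlg2.normRed R :=
    (φ.toRingHom.comp (integralClosure A (FractionRing A)).val.toRingHom).codRestrict
      (integralClosure (CAlg2.red R) F).toSubring hcl
  refine ⟨ι, fun a => Subtype.ext (φ.commutes a), fun z => ?_⟩
  obtain ⟨w, hw⟩ : ∃ w, φ w = z.1 := by
    obtain ⟨a, b, -, hab⟩ := IsFractionRing.div_surjective (CAlg2.red R) z.1
    have himg : ∀ c : CAlg2.red R, ∃ v, φ v = algebraMap (CAlg2.red R) F c := by
      intro c
      obtain ⟨r, rfl⟩ := Ideal.Quotient.mk_surjective c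
      obtain ⟨a₀, s, rfl⟩ := IsLocalization.exists_mk'_eq p.primeCompl r
      refine ⟨algebraMap A _ a₀ / algebraMap A _ s.1, ?_⟩
      have hs : algebraMap A F s.1 ≠ 0 := by
        rw [← (Algebra.ofId A F).map_zero]
        exact hAF.ne fun h => s.2 (h ▸ p.zero_mem)
      rw [map_div₀, φ.commutes, φ.commutes, div_eq_iff hs]
      rw [IsScalarTower.algebraMap_apply A (CAlg2.red R) F,
        IsScalarTower.algebraMap_apply A (CAlg2.red R) F, ← map_mul]
      refine congrArg _ ?_
      show Ideal.Quotient.mk (nilradical R) (algebraMap A R a₀) =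
        Ideal.Quotient.mk (nilradical R) _ * Ideal.Quotient.mk (nilradical R) (algebraMap A R s.1)
      rw [← map_mul, IsLocalization.mk'_spec]
    obtain ⟨va, hva⟩ := himg a
    obtain ⟨vb, hvb⟩ := himg b
    exact ⟨va / vb, by rw [map_div₀, hva, hvb, hab]⟩
  haveI : Algebra.IsIntegral R (CAlg2.red R) :=
    Algebra.isIntegral_of_surjective Ideal.Quotient.mk_surjective
  obtain ⟨s, hs⟩ := IsIntegral.exists_multiple_integral_of_isLocalization p.primeCompl z.1
    (isIntegral_trans (R := R) z.1 z.2)
  have hw' : IsIntegral A (algebraMap A _ s.1 * w) := by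
    refine (isIntegral_algHom_iff φ φ.toRingHom.injective).mp ?_
    rw [map_mul, φ.commutes, hw, ← Algebra.smul_def]
    exact hs
  refine ⟨s.1, ⟨_, hw'⟩, s.2, Subtype.ext ?_⟩
  show algebraMap (CAlg2.red R) F (algebraMap A (CAlg2.red R) s.1) * z.1 = φ (_ * w)
  rw [map_mul, φ.commutes, hw, ← IsScalarTower.algebraMap_apply A (CAlg2.red R) F]

theorem isIntegral_normRed (R : Type u) [CommRing R] : (toNormRed R).IsIntegral :=
  RingHom.IsIntegral.trans _ _
    (RingHom.isIntegral_of_surjective _ Ideal.Quotient.mk_surjective)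
    (fun x => Algebra.IsIntegral.isIntegral x)

variable {A}

/-- A domain whose localisations are all geometrically unibranch has radicial normalisation. -/
theorem fieldEpi_of_isGeomUnibranch
    (h : ∀ (p : Ideal A) [p.IsPrime], CAlg2.IsGeomUnibranch (Localization.AtPrime p)) :
    FieldEpi A (integralClosure A (FractionRing A)) := by
  intro F _ f g hfg
  let p := RingHom.ker (f.comp (algebraMap A _))
  haveI : p.IsPrime := RingHom.ker_isPrime _
  obtain ⟨⟨-, hloc⟩, hpi⟩ := h p
  let R := Localization.AtPrime p
  let N := CAlg2.normRed R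
  haveI : IsLocalRing N := hloc
  obtain ⟨ι, hι, hgen⟩ := exists_toNormRed_atPrime A p
  let A' := integralClosure A (FractionRing A)
  -- extend to `N`, which inverts `A ∖ p`
  let M : Submonoid A' := p.primeCompl.map (algebraMap A A')
  have hM : ∀ e : A' →+* F, e.comp (algebraMap A A') = f.comp (algebraMap A A') →
      ∀ y : M, IsUnit (e y) := by
    rintro e he ⟨_, s, hs, rfl⟩
    exact IsUnit.mk0 _ fun h0 => hs (((RingHom.congr_fun he s).symm.trans h0 :))
  have hinjι : Function.Injective ι := by
    haveI := isDomain_red_atPrime A p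
    refine (injective_iff_map_eq_zero ι).mpr fun x hx => ?_
    by_contra hx0
    have h1 : ((⊥ : Ideal N).comap ι).comap (algebraMap A A') = ⊥ := by
      refine le_bot_iff.mp fun a (ha : ι (algebraMap A A' a) = 0) => ?_
      rw [hι] at ha
      refine Ideal.mem_bot.mpr (IsLocalization.injective R p.primeCompl_le_nonZeroDivisors ?_)
      rw [map_zero]
      have h2 : Ideal.Quotient.mk (nilradical R) (algebraMap A R a) = 0 :=
        IsFractionRing.injective (CAlg2.red R) (FractionRing (CAlg2.red R))
          ((congrArg Subtype.val ha).trans (map_zero _).symm)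
      rw [Ideal.Quotient.eq_zero_iff_mem, nilradical_eq_zero, Ideal.zero_eq_bot] at h2
      exact Ideal.mem_bot.mp h2
    exact hx0 (Ideal.mem_bot.mp ((Ideal.eq_bot_of_comap_eq_bot h1).le hx))
  letI : Algebra A' N := ι.toAlgebra
  haveI : IsLocalization M N := by
    refine ⟨?_, ?_, ?_⟩
    · rintro ⟨_, s, hs, rfl⟩
      show IsUnit (ι _)
      rw [hι]
      exact (IsLocalization.map_units R ⟨s, hs⟩).map _
    · intro z
      obtain ⟨s, a', hs, hz⟩ := hgen z
      exact ⟨(a', ⟨_, s, hs, rfl⟩), by rw [mul_comm]; exact (congrArg (· * z) (hι s)).trans hz⟩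
    · intro x y hxy
      exact ⟨1, by rw [hinjι hxy]⟩
  let f' : N →+* F := IsLocalization.lift (hM f rfl)
  let g' : N →+* F := IsLocalization.lift (hM g hfg.symm)
  have hf' : ∀ x, f' (ι x) = f x := fun x => IsLocalization.lift_eq (hM f rfl) x
  have hg' : ∀ x, g' (ι x) = g x := fun x => IsLocalization.lift_eq (hM g hfg.symm) x
  suffices hfg' : f' = g' by
    refine RingHom.ext fun x => ?_
    rw [← hf' x, ← hg' x, hfg']
  have hR : f'.comp (toNormRed R) = g'.comp (toNormRed R) := by
    refine IsLocalization.ringHom_ext p.primeCompl (RingHom.ext fun a => ?_)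
    show f' (toNormRed R _) = g' (toNormRed R _)
    rw [← hι, hf', hg']
    exact RingHom.congr_fun hfg a
  have hker : ∀ e : N →+* F, e.comp (toNormRed R) = f'.comp (toNormRed R) →
      RingHom.ker e = maximalIdeal N := by
    intro e he
    haveI : (RingHom.ker e).IsPrime := RingHom.ker_isPrime e
    refine IsLocalRing.eq_maximalIdeal (Ideal.isMaximal_of_isIntegral_of_isMaximal_comap'
      (toNormRed R) (isIntegral_normRed R) _ ?_)
    rw [RingHom.comap_ker, he]
    suffices RingHom.ker (f'.comp (toNormRed R)) = maximalIdeal R by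
      rw [this]; exact maximalIdeal.isMaximal R
    haveI : (RingHom.ker (f'.comp (toNormRed R))).IsPrime := RingHom.ker_isPrime _
    rw [← IsLocalization.map_under p.primeCompl R (RingHom.ker (f'.comp (toNormRed R))),
      ← Localization.AtPrime.map_eq_maximalIdeal]
    congr 1
    ext a
    show f' (toNormRed R (algebraMap A R a)) = 0 ↔ f (algebraMap A A' a) = 0
    rw [← hι, hf']
  letI : Field (N ⧸ maximalIdeal N) := Ideal.Quotient.field _
  let F₁ : N ⧸ maximalIdeal N →+* F :=
    Ideal.Quotient.lift _ f' fun z hz => by rwa [← hker f' rfl, RingHom.mem_ker] at hz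
  let F₂ : N ⧸ maximalIdeal N →+* F :=
    Ideal.Quotient.lift _ g' fun z hz => by rwa [← hker g' hR.symm, RingHom.mem_ker] at hz
  refine RingHom.ext fun z => ?_
  obtain ⟨n, r, hr⟩ := hpi (maximalIdeal N) (Ideal.Quotient.mk _ z)
  haveI : ExpChar F (ringExpChar (N ⧸ maximalIdeal N)) :=
    expChar_of_injective_ringHom F₁.injective _
  refine iterateFrobenius_inj F (ringExpChar (N ⧸ maximalIdeal N)) n ?_
  simp only [iterateFrobenius_def]
  show F₁ (Ideal.Quotient.mk _ z) ^ _ = F₂ (Ideal.Quotient.mk _ z) ^ _
  rw [← map_pow F₁, ← map_pow F₂, ← hr]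
  exact RingHom.congr_fun hR r

/-- A domain with radicial normalisation has geometrically unibranch localisations. -/
theorem isGeomUnibranch_of_fieldEpi (h : FieldEpi A (integralClosure A (FractionRing A)))
    (p : Ideal A) [p.IsPrime] : CAlg2.IsGeomUnibranch (Localization.AtPrime p) := by
  haveI := isDomain_red_atPrime A p
  obtain ⟨ι, hι, hgen⟩ := exists_toNormRed_atPrime A p
  let R := Localization.AtPrime p
  let N := CAlg2.normRed R
  letI : Algebra R N := (toNormRed R).toAlgebra
  haveI : Algebra.IsIntegral R N := ⟨isIntegral_normRed R⟩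
  have hN : FieldEpi R N := by
    intro F _ f g hfg
    refine RingHom.ext fun z => ?_
    obtain ⟨s, a', hs, hz⟩ := hgen z
    have hι' : f.comp ι = g.comp ι := h F _ _ <| RingHom.ext fun a => by
      show f (ι (algebraMap A _ a)) = g (ι (algebraMap A _ a))
      rw [hι]
      exact RingHom.congr_fun hfg _
    have e : g (toNormRed R (algebraMap A R s)) = f (toNormRed R (algebraMap A R s)) :=
      (RingHom.congr_fun hfg _).symm
    have hu : IsUnit (f (toNormRed R (algebraMap A R s))) :=
      ((IsLocalization.map_units R (⟨s, hs⟩ : p.primeCompl)).map (toNormRed R)).map f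
    refine hu.mul_left_cancel ?_
    rw [← map_mul, hz]
    nth_rw 1 [← e]
    rw [← map_mul, hz]
    exact RingHom.congr_fun hι' a'
  haveI : IsLocalRing N := by
    obtain ⟨m, hm⟩ := Ideal.exists_maximal N
    refine IsLocalRing.of_unique_max_ideal ⟨m, hm, fun m' hm' => ?_⟩
    haveI := hm; haveI := hm'
    refine (congrArg PrimeSpectrum.asIdeal (comap_injective hN
      (a₁ := ⟨m', hm'.isPrime⟩) (a₂ := ⟨m, hm.isPrime⟩) (PrimeSpectrum.ext ?_)) :)
    show m'.comap (algebraMap R N) = m.comap (algebraMap R N)
    rw [IsLocalRing.eq_maximalIdeal (Ideal.isMaximal_comap_of_isIntegral_of_isMaximal m'),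
      IsLocalRing.eq_maximalIdeal (Ideal.isMaximal_comap_of_isIntegral_of_isMaximal m)]
  refine ⟨⟨inferInstance, ‹IsLocalRing N›⟩, ?_⟩
  intro m' hm'
  letI : Field (N ⧸ m') := Ideal.Quotient.field m'
  show ∀ x : N ⧸ m', ∃ n : ℕ, x ^ ringExpChar (N ⧸ m') ^ n ∈
    ((Ideal.Quotient.mk m').comp (toNormRed R)).range
  intro x
  have hk : ∀ r ∈ maximalIdeal R, (Ideal.Quotient.mk m').comp (toNormRed R) r = 0 := by
    intro r hr
    refine Ideal.Quotient.eq_zero_iff_mem.mpr ?_
    show r ∈ m'.comap (algebraMap R N)
    rwa [IsLocalRing.eq_maximalIdeal (Ideal.isMaximal_comap_of_isIntegral_of_isMaximal m')]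
  letI : Algebra (ResidueField R) (N ⧸ m') := (Ideal.Quotient.lift (maximalIdeal R) _ hk).toAlgebra
  haveI : IsPurelyInseparable (ResidueField R) (N ⧸ m') := by
    rw [isPurelyInseparable_iff_subsingleton_emb]
    refine ⟨fun f g => AlgHom.coe_ringHom_injective (Ideal.Quotient.ringHom_ext ?_)⟩
    exact hN _ _ _ (RingHom.ext fun r =>
      (f.commutes (IsLocalRing.residue R r)).trans (g.commutes (IsLocalRing.residue R r)).symm)
  haveI : ExpChar (ResidueField R) (ringExpChar (N ⧸ m')) :=
    ((algebraMap (ResidueField R) (N ⧸ m')).expChar_iff (RingHom.injective _) _).mpr inferInstance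
  obtain ⟨n, y, hy⟩ := IsPurelyInseparable.pow_mem (ResidueField R) (ringExpChar (N ⧸ m')) x
  obtain ⟨r, rfl⟩ := IsLocalRing.residue_surjective (R := R) y
  exact ⟨n, r, hy⟩

end Groth.Agent.Unibranch
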