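import Mathlib
import Groth.Agent.Unibranch.Open

set_option autoImplicit false
set_option backward.isDefEq.respectTransparency false
set_option backward.defeqAttrib.useBackward true
set_option linter.style.haveILetI false

/-!
# Unramified morphisms to geometrically unibranch integral schemes
-/

open CategoryTheory CategoryTheory.Limits AlgebraicGeometry Topology TensorProduct

universe u

namespace Groth.Agent.Unibranch

theorem isReduced_of_etale_domain {R S : Type u} [CommRing R] [IsDomain R] [CommRing S]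
    [Algebra R S] [Algebra.Etale R S] : IsReduced S := by
  let K := FractionRing R
  haveI : IsReduced (K ⊗[R] S) := Algebra.FormallyUnramified.isReduced_of_field K _
  have hinj : Function.Injective (Algebra.TensorProduct.includeRight : S →ₐ[R] K ⊗[R] S) :=
    Algebra.TensorProduct.includeRight_injective (IsFractionRing.injective R K)
  exact isReduced_of_injective Algebra.TensorProduct.includeRight hinj

/-- An unramified algebra over a domain is étale near a prime generalised by a prime over zero,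
at a geometrically unibranch point. -/
theorem exists_etale_away {R S : Type u} [CommRing R] [IsDomain R] [CommRing S] [Algebra R S]
    [Algebra.FiniteType R S] (q : Ideal S) [q.IsPrime] [Algebra.IsUnramifiedAt R q]
    (A : Type u) [CommRing A] [Algebra R A] [IsLocalization.AtPrime A (q.comap (algebraMap R S))]
    [IsLocalRing A] (hA : CAlg2.IsGeomUnibranch A) (P : Ideal S) [P.IsPrime] (hPq : P ≤ q)
    (hP : P.comap (algebraMap R S) = ⊥) :
    ∃ h ∉ q, Algebra.Etale R (Localization.Away h) := by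
  classical
  obtain ⟨f, hf, Pr, φ, hφ⟩ :=
    Algebra.IsUnramifiedAt.exists_hasStandardEtaleSurjectionOn (R := R) q
  let E := Pr.Ring
  have hpr : ∀ Q : Ideal S, Q.IsPrime → Q ≤ q →
      ∃ Q' : Ideal (Localization.Away f), Q'.IsPrime ∧
        Q'.comap (algebraMap S (Localization.Away f)) = Q := fun Q hQ hle =>
    have hd : Disjoint (Submonoid.powers f : Set S) (Q : Set S) :=
      (Ideal.disjoint_powers_iff_notMem_of_isPrime f).mpr fun h => hf (hle h)
    ⟨Q.map (algebraMap S (Localization.Away f)),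
      IsLocalization.isPrime_of_isPrime_disjoint (.powers f) _ Q hQ hd,
      IsLocalization.under_map_of_isPrime_disjoint (.powers f) _ hQ hd⟩
  obtain ⟨q', hq', hq'q⟩ := hpr q ‹_› le_rfl
  obtain ⟨P', hP', hP'P⟩ := hpr P ‹_› hPq
  let qA := q'.comap φ
  let PA := P'.comap φ
  have hcomp : ∀ (Q : Ideal S) (Q' : Ideal (Localization.Away f)),
      Q'.comap (algebraMap S (Localization.Away f)) = Q →
      (Q'.comap φ).comap (algebraMap R E) = Q.comap (algebraMap R S) := by
    rintro Q Q' rfl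
    rw [Ideal.comap_comap, ← IsScalarTower.algebraMap_eq]
    ext r
    show φ (algebraMap R E r) ∈ Q' ↔ _
    rw [φ.commutes]; rfl
  have hle : PA ≤ qA := by
    refine Ideal.comap_mono ?_
    rw [← IsLocalization.map_under (.powers f) (Localization.Away f) P',
      ← IsLocalization.map_under (.powers f) (Localization.Away f) q']
    exact Ideal.map_mono (le_of_eq_of_le hP'P (hPq.trans hq'q.ge))
  haveI : Algebra.Etale R E := inferInstanceAs (Algebra.Etale R Pr.Ring)
  haveI : Algebra.QuasiFinite R E := inferInstance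
  haveI : IsReduced E := isReduced_of_etale_domain (R := R)
  haveI : qA.IsPrime := Ideal.comap_isPrime _ _
  haveI : PA.IsPrime := Ideal.comap_isPrime _ _
  have hPAmin : PA ∈ minimalPrimes E := by
    refine ⟨⟨‹_›, bot_le⟩, fun Q hQ hle' => le_of_eq ?_⟩
    haveI := hQ.1
    refine (Algebra.QuasiFinite.eq_of_le_of_under_eq (R := R) Q PA hle' ?_).symm
    show Q.comap (algebraMap R E) = PA.comap (algebraMap R E)
    rw [hcomp P P' hP'P, hP, eq_bot_iff, ← hP, ← hcomp P P' hP'P]
    exact Ideal.comap_mono hle'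
  have hfin : (minimalPrimes E).Finite := by
    refine (Algebra.QuasiFinite.finite_primesOver (R := R) (⊥ : Ideal R)).subset fun Q hQ => ?_
    haveI := hQ.1.1
    refine ⟨hQ.1.1, ⟨?_⟩⟩
    obtain ⟨Q₀, hQ₀Q, hQ₀b, hQ₀⟩ :=
      Ideal.exists_ideal_le_liesOver_of_le (p := (⊥ : Ideal R)) (q := Q.comap (algebraMap R E))
        (Q := Q) bot_le
    rw [le_antisymm hQ₀Q (hQ.2 ⟨hQ₀b, bot_le⟩ hQ₀Q)] at hQ₀
    exact hQ₀.1
  have hq'' : qA.comap (algebraMap R E) = q.comap (algebraMap R S) := hcomp q q' hq'q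
  have huniq : ∀ Q ∈ minimalPrimes E, Q ≤ qA → Q = PA := fun Q hQ hQq =>
    minimal_unique_of_localization _ A hA qA hq'' Q PA hQ hPAmin hQq hle
  have hs' : ∀ Q ∈ (hfin.toFinset.erase PA), ∃ s ∈ Q, s ∉ qA := by
    intro Q hQ
    rw [Finset.mem_erase, Set.Finite.mem_toFinset] at hQ
    exact SetLike.not_le_iff_exists.mp fun h => hQ.1 (huniq Q hQ.2 h)
  choose! s₀ hs₀ hs₀' using hs'
  let s := ∏ Q ∈ hfin.toFinset.erase PA, s₀ Q
  have hs : s ∉ qA := fun h => by
    obtain ⟨Q, hQ, hQ'⟩ := Ideal.IsPrime.prod_mem_iff.mp h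
    exact hs₀' Q hQ hQ'
  have hkill : ∀ a, φ a = 0 → s * a = 0 := by
    intro a ha
    refine IsReduced.eq_zero _ (nilpotent_iff_mem_prime.mpr fun Q hQ => ?_)
    obtain ⟨Q₀, hQ₀, hQ₀Q⟩ := Ideal.exists_minimalPrimes_le (bot_le : (⊥ : Ideal E) ≤ Q)
    refine hQ₀Q ?_
    rcases eq_or_ne Q₀ PA with rfl | hne
    · exact Ideal.mul_mem_left _ _ (show φ a ∈ P' by rw [ha]; exact P'.zero_mem)
    · exact Ideal.mul_mem_right _ _ (Ideal.mem_of_dvd _ (Finset.dvd_prod_of_mem s₀
        (Finset.mem_erase.mpr ⟨hne, hfin.mem_toFinset.mpr hQ₀⟩)) (hs₀ Q₀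
        (Finset.mem_erase.mpr ⟨hne, hfin.mem_toFinset.mpr hQ₀⟩)))
  obtain ⟨a₀, ha₀⟩ := hφ (algebraMap S (Localization.Away f) f)
  obtain ⟨k, h, hh⟩ := IsLocalization.Away.surj f (φ s)
  let s' := s * a₀ ^ k
  have hs'φ : φ s' = algebraMap S (Localization.Away f) h := by
    rw [map_mul, map_pow, ha₀, hh]
  have hfu : algebraMap S (Localization.Away f) f ∉ q' := fun hh' => by
    have : f ∈ q'.comap (algebraMap S (Localization.Away f)) := hh'
    rw [hq'q] at this
    exact hf this
  have hs'q : s' ∉ qA := by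
    intro hm
    rcases Ideal.IsPrime.mem_or_mem ‹_› hm with h' | h'
    · exact hs h'
    · exact hfu (ha₀ ▸ Ideal.IsPrime.mem_of_pow_mem ‹qA.IsPrime› k h')
  refine ⟨f * h, Ideal.IsPrime.mul_notMem ‹_› hf (fun hh' => hs'q ?_), ?_⟩
  · show φ s' ∈ q'
    rw [hs'φ, ← Ideal.mem_comap, hq'q]
    exact hh'
  haveI : IsLocalization.Away (f * h) (Localization.Away (φ s')) :=
    hs'φ ▸ IsLocalization.Away.mul' (Localization.Away f) _ _ _
  have hkill' : ∀ a, φ a = 0 → s' * a = 0 := fun a ha => by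
    show s * a₀ ^ k * a = 0
    rw [mul_right_comm, hkill a ha, zero_mul]
  let ψ : Localization.Away s' →ₐ[R] Localization.Away (φ s') :=
    IsLocalization.Away.mapₐ (Localization.Away s') (Localization.Away (φ s')) φ s'
  have hψs : Function.Surjective ψ :=
    IsLocalization.Away.mapₐ_surjective_of_surjective s' hφ
  have hψi : Function.Injective ψ := by
    refine (injective_iff_map_eq_zero ψ).mpr fun z hz => ?_
    obtain ⟨n, a, ha⟩ := IsLocalization.Away.surj s' z
    have hψa : ψ (algebraMap E (Localization.Away s') a) =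
        algebraMap (Localization.Away f) (Localization.Away (φ s')) (φ a) :=
      IsLocalization.map_eq (M := Submonoid.powers s') (T := Submonoid.powers (φ s'))
        (g := φ.toRingHom) (S := Localization.Away s')
        (by rintro _ ⟨i, rfl⟩; exact ⟨i, (map_pow φ.toRingHom s' i).symm⟩) a
    rw [← ha, map_mul ψ z, hz, zero_mul] at hψa
    obtain ⟨⟨_, m, rfl⟩, hm⟩ :=
      (IsLocalization.map_eq_zero_iff (.powers (φ s')) _ _).mp hψa.symm
    have h0 : s' * (s' ^ m * a) = 0 := hkill' _ (by rw [map_mul, map_pow]; exact hm)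
    have hu : IsUnit (algebraMap E (Localization.Away s') s') :=
      IsLocalization.Away.algebraMap_isUnit s'
    have h1 : algebraMap E (Localization.Away s') s' *
        (algebraMap E (Localization.Away s') s' ^ m * algebraMap E (Localization.Away s') a) = 0 := by
      rw [← map_pow, ← map_mul, ← map_mul, h0, map_zero]
    rw [hu.mul_right_eq_zero, (hu.pow m).mul_right_eq_zero] at h1
    rw [h1] at ha
    exact (hu.pow n).mul_left_eq_zero.mp ha
  haveI : Algebra.Etale R (Localization.Away s') :=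
    Algebra.Etale.comp R E (Localization.Away s')
  haveI : Algebra.Etale R (Localization.Away (φ s')) :=
    Algebra.Etale.of_equiv (AlgEquiv.ofBijective ψ ⟨hψi, hψs⟩)
  exact Algebra.Etale.of_equiv
    ((IsLocalization.algEquiv (.powers (f * h)) (Localization.Away (φ s'))
      (Localization.Away (f * h))).restrictScalars R)

/-- Étale near a point: from an affine étale localisation. -/
theorem etale_ι_of_away {X Y : Scheme.{u}} (f : X ⟶ Y) {W : Y.Opens} (hW : IsAffineOpen W)
    {U : X.Opens} (hU : IsAffineOpen U) (hUW : U ≤ f ⁻¹ᵁ W) (h : Γ(X, U))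
    (het : letI := (f.appLE W U hUW).hom.toAlgebra
      Algebra.Etale Γ(Y, W) (Localization.Away h)) :
    Etale ((X.basicOpen h).ι ≫ f) := by
  letI := (f.appLE W U hUW).hom.toAlgebra
  haveI := het
  have hle : X.basicOpen h ≤ f ⁻¹ᵁ W := (X.basicOpen_le h).trans hUW
  letI := (f.appLE W (X.basicOpen h) hle).hom.toAlgebra
  letI := (X.presheaf.map (homOfLE (X.basicOpen_le h)).op).hom.toAlgebra
  haveI := hU.isLocalization_basicOpen h
  haveI : IsScalarTower Γ(Y, W) Γ(X, U) Γ(X, X.basicOpen h) := .of_algebraMap_eq fun r => by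
    show f.appLE W (X.basicOpen h) hle r = X.presheaf.map _ (f.appLE W U hUW r)
    rw [← CommRingCat.comp_apply, Scheme.Hom.appLE_map]
  haveI : Algebra.Etale Γ(Y, W) Γ(X, X.basicOpen h) :=
    Algebra.Etale.of_equiv ((IsLocalization.algEquiv (.powers h) (Localization.Away h)
      Γ(X, X.basicOpen h)).restrictScalars Γ(Y, W))
  have het' : (f.appLE W (X.basicOpen h) hle).hom.Etale := RingHom.etale_algebraMap.mpr ‹_›
  have hV := hU.basicOpen h
  haveI : Etale (Spec.map (f.appLE W (X.basicOpen h) hle)) :=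
    (HasRingHomProperty.Spec_iff (P := @Etale)).mpr het'
  rw [show (X.basicOpen h).ι = hV.isoSpec.hom ≫ hV.fromSpec by
      rw [← hV.isoSpec_inv_ι, Iso.hom_inv_id_assoc], Category.assoc,
    ← hW.SpecMap_appLE_fromSpec f hV hle]
  infer_instance

/-- Unramified over a geometrically unibranch point of an integral scheme, with a generalisation
over the generic point: étale nearby. -/
theorem exists_etale_nbhd {X Y : Scheme.{u}} (f : X ⟶ Y) [IsIntegral Y] [LocallyOfFiniteType f]
    (x : X) (hY : CAlg2.IsGeomUnibranch (Y.presheaf.stalk (f x)))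
    (hsp : ∃ x' : X, x' ⤳ x ∧ f x' = genericPoint ↑Y)
    (hunr : ∃ U : X.Opens, x ∈ U ∧ FormallyUnramified (U.ι ≫ f)) :
    ∃ U : X.Opens, x ∈ U ∧ Etale (U.ι ≫ f) := by
  obtain ⟨U₀, hxU₀, hU₀⟩ := hunr
  obtain ⟨x', hx', hx'η⟩ := hsp
  obtain ⟨_, ⟨W : Y.Opens, hW, rfl⟩, hyW, -⟩ :=
    Y.isBasis_affineOpens.exists_subset_of_mem_open (Set.mem_univ (f x)) isOpen_univ
  obtain ⟨_, ⟨U : X.Opens, hU, rfl⟩, hxU, hUW'⟩ :=
    X.isBasis_affineOpens.exists_subset_of_mem_open (a := x) (u := ↑(U₀ ⊓ f ⁻¹ᵁ W)) ⟨hxU₀, hyW⟩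
      (U₀ ⊓ f ⁻¹ᵁ W).2
  have hUW : U ≤ f ⁻¹ᵁ W := fun z hz => (hUW' hz).2
  have hUU₀ : U ≤ U₀ := fun z hz => (hUW' hz).1
  haveI : FormallyUnramified (U.ι ≫ f) := by
    haveI := hU₀
    rw [← X.homOfLE_ι hUU₀, Category.assoc]
    exact MorphismProperty.comp_mem @FormallyUnramified _ _ inferInstance hU₀
  haveI : Nonempty W := ⟨⟨f x, hyW⟩⟩
  algebraize [(f.appLE W U hUW).hom]
  haveI : Algebra.FiniteType Γ(Y, W) Γ(X, U) :=
    RingHom.finiteType_algebraMap.mp (f.finiteType_appLE hW hU hUW)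
  haveI : Algebra.FormallyUnramified Γ(Y, W) Γ(X, U) := by
    refine RingHom.formallyUnramified_algebraMap.mp ?_
    haveI : IsAffine U.toScheme := hU
    have h := (U.ι ≫ f).formallyUnramified_appLE hW (isAffineOpen_top U.toScheme)
      (show (⊤ : U.toScheme.Opens) ≤ (U.ι ≫ f) ⁻¹ᵁ W from fun z _ => hUW z.2)
    rw [← Scheme.Hom.appLE_comp_appLE U.ι f W U ⊤ hUW U.ι_preimage_self.ge] at h
    exact (RingHom.FormallyUnramified.respectsIso.cancel_right_isIso
      (f.appLE W U hUW) (U.ι.appLE U ⊤ U.ι_preimage_self.ge)).mp h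
  letI := Y.presheaf.algebra_section_stalk ⟨f x, hyW⟩
  haveI := hW.isLocalization_stalk ⟨f x, hyW⟩
  let q := (hU.primeIdealOf ⟨x, hxU⟩).asIdeal
  have hqp : q.comap (algebraMap Γ(Y, W) Γ(X, U)) = (hW.primeIdealOf ⟨f x, hyW⟩).asIdeal :=
    congr($(IsAffineOpen.comap_primeIdealOf_appLE W hW U hU hUW hxU).1)
  haveI : IsLocalization.AtPrime (Y.presheaf.stalk (f x))
      (q.comap (algebraMap Γ(Y, W) Γ(X, U))) := by simpa only [hqp]
  have hx'U : x' ∈ U := hx'.mem_open U.2 hxU
  have hbot : (hU.primeIdealOf ⟨x', hx'U⟩).asIdeal.comap (algebraMap Γ(Y, W) Γ(X, U)) = ⊥ := by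
    refine (congr($(IsAffineOpen.comap_primeIdealOf_appLE W hW U hU hUW hx'U).1)).trans ?_
    refine le_bot_iff.mp ?_
    have hmin : (hW.primeIdealOf ⟨f x', hUW hx'U⟩).asIdeal ∈ minimalPrimes Γ(Y, W) :=
      mem_minimalPrimes_primeIdealOf hW _ fun y hy => by
        have hy' : y ⤳ genericPoint ↑Y := hx'η ▸ (hy : y ⤳ f x')
        exact ((hy'.antisymm (genericPoint_specializes y)).eq).trans hx'η.symm
    exact hmin.2 ⟨Ideal.isPrime_bot, bot_le⟩ bot_le
  obtain ⟨h, hh, het⟩ := exists_etale_away q (Y.presheaf.stalk (f x)) hY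
    (hU.primeIdealOf ⟨x', hx'U⟩).asIdeal ((primeIdealOf_le_iff hU _ _).mpr hx') hbot
  refine ⟨X.basicOpen h, ?_, etale_ι_of_away f hW hU hUW h het⟩
  have h1 : hU.primeIdealOf ⟨x, hxU⟩ ∈ hU.fromSpec ⁻¹ᵁ X.basicOpen h := by
    rw [hU.fromSpec_preimage_basicOpen]; exact hh
  have h2 : hU.fromSpec (hU.primeIdealOf ⟨x, hxU⟩) ∈ X.basicOpen h := h1
  rw [hU.fromSpec_primeIdealOf] at h2
  exact h2

end Groth.Agent.Unibranch
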