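import Mathlib
import Groth.Agent.Unibranch.Unram

set_option autoImplicit false
set_option backward.isDefEq.respectTransparency false
set_option backward.defeqAttrib.useBackward true
set_option linter.style.haveILetI false

/-!
# Étale algebras over integrally closed domains are locally integrally closed domains
-/

open TensorProduct

universe u

namespace Groth.Agent.Unibranch

theorem integralClosure_fractionRing_eq_bot {A : Type u} [CommRing A] [IsDomain A]
    [IsIntegrallyClosed A] (x : integralClosure A (FractionRing A)) :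
    ∃ a : A, algebraMap A (integralClosure A (FractionRing A)) a = x := by
  obtain ⟨a, ha⟩ := IsIntegrallyClosed.algebraMap_eq_of_integral x.2
  exact ⟨a, Subtype.ext ha⟩

theorem mem_range_of_isIntegral {A B : Type u} [CommRing A] [IsDomain A] [IsIntegrallyClosed A]
    [CommRing B] [Algebra A B] [Algebra.Etale A B] {z : B ⊗[A] FractionRing A}
    (hz : IsIntegral B z) : ∃ b : B, b ⊗ₜ[A] (1 : FractionRing A) = z := by
  let K := FractionRing A
  obtain ⟨w, hw⟩ := (TensorProduct.toIntegralClosure_bijective_of_smooth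
    (R := A) (S := B) (B := K)).2 ⟨z, hz⟩
  have hw' : ∃ b : B, w = b ⊗ₜ 1 := by
    clear hw
    induction w with
    | zero => exact ⟨0, (TensorProduct.zero_tmul _ _).symm⟩
    | add x y hx hy =>
      obtain ⟨a, rfl⟩ := hx; obtain ⟨b, rfl⟩ := hy
      exact ⟨a + b, (TensorProduct.add_tmul _ _ _).symm⟩
    | tmul b x =>
      obtain ⟨a, rfl⟩ := integralClosure_fractionRing_eq_bot x
      refine ⟨a • b, ?_⟩
      rw [Algebra.algebraMap_eq_smul_one, TensorProduct.tmul_smul, TensorProduct.smul_tmul']
  obtain ⟨b, rfl⟩ := hw'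
  exact ⟨b, congrArg Subtype.val hw⟩

/-- Local rings of étale algebras over integrally closed domains. -/
theorem isDomain_isIntegrallyClosed_of_etale {A B : Type u} [CommRing A] [IsDomain A]
    [IsIntegrallyClosed A] [CommRing B] [Algebra A B] [Algebra.Etale A B] (q : Ideal B) [q.IsPrime] :
    IsDomain (Localization.AtPrime q) ∧ IsIntegrallyClosed (Localization.AtPrime q) := by
  classical
  let K := FractionRing A
  let T := B ⊗[A] K
  let e₀ := (Algebra.TensorProduct.comm A K B).toRingEquiv
  haveI : Module.Finite K (K ⊗[A] B) := Algebra.FormallyUnramified.finite_of_free K _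
  haveI : IsArtinianRing (K ⊗[A] B) := IsArtinianRing.of_finite K _
  haveI : IsReduced (K ⊗[A] B) := Algebra.FormallyUnramified.isReduced_of_field K _
  haveI : IsArtinianRing T := e₀.surjective.isArtinianRing (f := e₀.toRingHom)
  haveI : IsReduced T := isReduced_of_injective e₀.symm e₀.symm.injective
  haveI := Fintype.ofFinite (MaximalSpectrum T)
  let j : B →+* T := (Algebra.TensorProduct.includeLeft (R := A) (S := A) (A := B) (B := K)).toRingHom
  have hjinj : Function.Injective j := by
    intro a b hab
    have h := congrArg (Algebra.TensorProduct.comm A B K) hab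
    exact Algebra.TensorProduct.includeRight_injective (A := K) (IsFractionRing.injective A K) h
  let E := IsArtinianRing.equivPi T
  let e : MaximalSpectrum T → T := fun I => E.symm (Pi.single I 1)
  have he : ∀ I, e I * e I = e I := fun I => by rw [← map_mul, ← Pi.single_mul, one_mul]
  have hek : ∀ I, ∀ t ∈ I.asIdeal, e I * t = 0 := by
    intro I t ht
    apply E.injective
    rw [map_mul, E.apply_symm_apply, map_zero]
    funext J
    rcases eq_or_ne J I with rfl | hJ
    · have : E t J = 0 := Ideal.Quotient.eq_zero_iff_mem.mpr ht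
      simp [this]
    · simp [Pi.single_eq_of_ne hJ]
  have hint : ∀ I, IsIntegral B (e I) := fun I =>
    ⟨Polynomial.X * (Polynomial.X - Polynomial.C 1),
      Polynomial.monic_X.mul (Polynomial.monic_X_sub_C 1), by simp [mul_sub, he I]⟩
  choose s₀ hs₀ using fun I => mem_range_of_isIntegral (hint I)
  have hsum : ∑ I, s₀ I = 1 := by
    apply hjinj
    rw [map_sum, map_one]
    refine (Finset.sum_congr rfl fun I _ => hs₀ I).trans ?_
    rw [← map_sum, Finset.univ_sum_single (fun _ => (1 : _))]
    exact map_one E.symm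
  obtain ⟨I, hI⟩ : ∃ I, s₀ I ∉ q := by
    by_contra! h
    exact Ideal.IsPrime.ne_top ‹_› ((Ideal.eq_top_iff_one q).mpr
      (hsum ▸ Ideal.sum_mem q fun I _ => h I))
  haveI := I.isMaximal
  letI : Field (T ⧸ I.asIdeal) := Ideal.Quotient.field _
  let F := T ⧸ I.asIdeal
  let φ : B →+* F := (Ideal.Quotient.mk I.asIdeal).comp j
  have hφ : ∀ b, φ b = 0 → b * s₀ I = 0 := fun b hb => by
    apply hjinj
    rw [map_mul, map_zero, show j (s₀ I) = e I from hs₀ I, mul_comm]
    exact hek I _ (Ideal.Quotient.eq_zero_iff_mem.mp hb)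
  have hunit : ∀ b : q.primeCompl, IsUnit (φ b) := fun b => isUnit_iff_ne_zero.mpr fun h => by
    have h1 : (b : B) * s₀ I ∈ q := by rw [hφ b h]; exact q.zero_mem
    exact (Ideal.IsPrime.mem_or_mem ‹_› h1).elim b.2 hI
  let D := Localization.AtPrime q
  let ψ : D →+* F := IsLocalization.lift (M := q.primeCompl) hunit
  have hψj : ∀ b, ψ (algebraMap B D b) = φ b := fun b => IsLocalization.lift_eq _ b
  have hψi : Function.Injective ψ := by
    refine (injective_iff_map_eq_zero ψ).mpr fun z hz => ?_
    obtain ⟨⟨b, t⟩, hbt⟩ := IsLocalization.surj q.primeCompl z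
    have h1 : φ b = 0 := by rw [← hψj, ← hbt, map_mul, hz, zero_mul]
    have h2 : algebraMap B D b = 0 :=
      (IsLocalization.map_eq_zero_iff q.primeCompl D b).mpr ⟨⟨s₀ I, hI⟩, by
        rw [mul_comm]; exact hφ b h1⟩
    rw [h2] at hbt
    exact (IsLocalization.map_units D t).mul_left_eq_zero.mp hbt
  haveI : IsDomain D := hψi.isDomain ψ
  refine ⟨‹_›, ?_⟩
  letI : Algebra D F := ψ.toAlgebra
  haveI : IsScalarTower B D F := .of_algebraMap_eq fun b => (hψj b).symm
  haveI : FaithfulSMul D F := (faithfulSMul_iff_algebraMap_injective D F).mpr hψi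
  haveI : IsFractionRing D F := IsFractionRing.of_field D F fun x => by
    obtain ⟨z, rfl⟩ := Ideal.Quotient.mk_surjective x
    have hz : ∃ a : A, a ≠ 0 ∧ ∃ b : B, z * j (algebraMap A B a) = j b := by
      induction z using TensorProduct.induction_on with
      | zero => exact ⟨1, one_ne_zero, 0, by simp⟩
      | add x y hx hy =>
        obtain ⟨a, ha, b, hb⟩ := hx
        obtain ⟨a', ha', b', hb'⟩ := hy
        refine ⟨a * a', mul_ne_zero ha ha', b * algebraMap A B a' + b' * algebraMap A B a, ?_⟩
        simp only [map_add, map_mul, ← hb, ← hb']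
        ring
      | tmul b k =>
        obtain ⟨a, d, hd, rfl⟩ := IsFractionRing.div_surjective (A := A) k
        refine ⟨d, nonZeroDivisors.ne_zero hd, a • b, ?_⟩
        show b ⊗ₜ[A] _ * (algebraMap A B d) ⊗ₜ[A] (1 : K) = (a • b) ⊗ₜ[A] (1 : K)
        rw [Algebra.TensorProduct.tmul_mul_tmul, mul_one, TensorProduct.smul_tmul,
          mul_comm b, ← Algebra.smul_def, TensorProduct.smul_tmul,
          ← Algebra.algebraMap_eq_smul_one, Algebra.smul_def, mul_div_cancel₀ _
          (IsFractionRing.to_map_ne_zero_of_mem_nonZeroDivisors hd)]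
    obtain ⟨a, ha, b, hb⟩ := hz
    refine ⟨algebraMap B D b, algebraMap B D (algebraMap A B a), ?_⟩
    show _ = ψ _ / ψ _
    have hne : φ (algebraMap A B a) ≠ 0 := by
      let g : K →+* F :=
        (Ideal.Quotient.mk I.asIdeal).comp (Algebra.TensorProduct.includeRight (R := A) (A := B)).toRingHom
      have h1 : φ (algebraMap A B a) = g (algebraMap A K a) := by
        show Ideal.Quotient.mk I.asIdeal (algebraMap A B a ⊗ₜ (1 : K)) =
          Ideal.Quotient.mk I.asIdeal ((1 : B) ⊗ₜ algebraMap A K a)
        rw [Algebra.algebraMap_eq_smul_one, Algebra.algebraMap_eq_smul_one (A := K),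
          TensorProduct.smul_tmul]
      rw [h1]
      exact (map_ne_zero g).mpr ((map_ne_zero_iff _ (IsFractionRing.injective A K)).mpr ha)
    rw [hψj, hψj, eq_div_iff hne]
    exact (map_mul _ _ _).symm.trans (congrArg (Ideal.Quotient.mk I.asIdeal) hb)
  refine (isIntegrallyClosed_iff F).mpr fun {x} hx => ?_
  obtain ⟨m, hm⟩ := IsIntegral.exists_multiple_integral_of_isLocalization q.primeCompl x hx
  obtain ⟨p, hp, hpx⟩ := hm
  obtain ⟨z, hz⟩ := Ideal.Quotient.mk_surjective (m • x)
  have hint' : IsIntegral B (e I * z) := by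
    refine ⟨Polynomial.X * p, Polynomial.monic_X.mul hp, ?_⟩
    rw [← Polynomial.aeval_def, map_mul, Polynomial.aeval_X, mul_assoc, mul_comm z,
      ← mul_assoc]
    have h1 : Polynomial.aeval (e I * z) p ∈ I.asIdeal := by
      rw [← Ideal.Quotient.eq_zero_iff_mem]
      have h3 : Ideal.Quotient.mk I.asIdeal (e I * z) = m • x := by
        rw [map_mul, hz, show Ideal.Quotient.mk I.asIdeal (e I) = 1 from ?_, one_mul]
        have := congrFun (E.apply_symm_apply (Pi.single I 1)) I
        rwa [Pi.single_eq_same] at this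
      show (IsScalarTower.toAlgHom B T F) (Polynomial.aeval (e I * z) p) = 0
      rw [← Polynomial.aeval_algHom_apply]
      show Polynomial.aeval (Ideal.Quotient.mk I.asIdeal (e I * z)) p = 0
      rw [h3]
      exact hpx
    rw [hek I _ h1, zero_mul]
  obtain ⟨b, hb⟩ := mem_range_of_isIntegral hint'
  refine ⟨IsLocalization.mk' D b m, ?_⟩
  show ψ _ = x
  have h4 : φ b = m • x := by
    show Ideal.Quotient.mk I.asIdeal (j b) = _
    rw [show j b = e I * z from hb, map_mul, hz,
      show Ideal.Quotient.mk I.asIdeal (e I) = 1 from ?_, one_mul]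
    have := congrFun (E.apply_symm_apply (Pi.single I 1)) I
    rwa [Pi.single_eq_same] at this
  have h5 := congrArg ψ (IsLocalization.mk'_spec D b m)
  rw [map_mul, hψj, hψj, h4] at h5
  refine mul_right_cancel₀ (hunit m).ne_zero ?_
  rw [h5]
  exact (Algebra.smul_def (m : B) x).trans (mul_comm _ _)

end Groth.Agent.Unibranch
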