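import Mathlib
import Groth.Agent.Unibranch.Normal

set_option autoImplicit false
set_option backward.isDefEq.respectTransparency false
set_option backward.defeqAttrib.useBackward true
set_option linter.style.haveILetI false

/-!
# Normality of stalks and étale morphisms
-/

open CategoryTheory CategoryTheory.Limits AlgebraicGeometry TensorProduct

universe u

namespace Groth.Agent.Unibranch

/-- Local rings of étale algebras over a ring whose localisation is normal. -/
theorem isDomain_isIntegrallyClosed_localization {R S : Type u} [CommRing R] [CommRing S]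
    [Algebra R S] [Algebra.Etale R S] (q : Ideal S) [q.IsPrime] (A : Type u) [CommRing A]
    [Algebra R A] [IsLocalization.AtPrime A (q.comap (algebraMap R S))] [IsDomain A]
    [IsIntegrallyClosed A] (D : Type u) [CommRing D] [Algebra S D] [IsLocalization.AtPrime D q] :
    IsDomain D ∧ IsIntegrallyClosed D := by
  letI : Algebra S (A ⊗[R] S) := Algebra.TensorProduct.rightAlgebra
  let M := Algebra.algebraMapSubmonoid S (q.comap (algebraMap R S)).primeCompl
  haveI : IsLocalization M (A ⊗[R] S) :=
    IsLocalization.tensorRight A (q.comap (algebraMap R S)).primeCompl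
  have hdq : Disjoint (M : Set S) (q : Set S) := by
    rw [Set.disjoint_left]
    rintro _ ⟨a, ha, rfl⟩ h
    exact ha h
  haveI := IsLocalization.isPrime_of_isPrime_disjoint M (A ⊗[R] S) q ‹_› hdq
  obtain ⟨hd, hic⟩ := isDomain_isIntegrallyClosed_of_etale (A := A)
    (q.map (algebraMap S (A ⊗[R] S)))
  haveI := IsLocalization.isLocalization_isLocalization_atPrime_isLocalization M
    (Localization.AtPrime (q.map (algebraMap S (A ⊗[R] S)))) (q.map (algebraMap S (A ⊗[R] S)))
  have hc : (q.map (algebraMap S (A ⊗[R] S))).comap (algebraMap S (A ⊗[R] S)) = q :=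
    IsLocalization.under_map_of_isPrime_disjoint M (A ⊗[R] S) ‹q.IsPrime› hdq
  haveI : IsLocalization.AtPrime (Localization.AtPrime (q.map (algebraMap S (A ⊗[R] S)))) q := by
    simpa only [hc]
  let e := (IsLocalization.algEquiv q.primeCompl
    (Localization.AtPrime (q.map (algebraMap S (A ⊗[R] S)))) D).toRingEquiv
  haveI := hd
  exact ⟨e.symm.injective.isDomain, IsIntegrallyClosed.of_equiv e⟩

/-- Normality ascends along étale morphisms. -/
theorem normal_stalk_of_etale {X Y : Scheme.{u}} (f : X ⟶ Y) [Etale f] (x : X)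
    (h : IsDomain (Y.presheaf.stalk (f x)) ∧ IsIntegrallyClosed (Y.presheaf.stalk (f x))) :
    IsDomain (X.presheaf.stalk x) ∧ IsIntegrallyClosed (X.presheaf.stalk x) := by
  obtain ⟨_, ⟨W : Y.Opens, hW, rfl⟩, hyW, -⟩ :=
    Y.isBasis_affineOpens.exists_subset_of_mem_open (Set.mem_univ (f x)) isOpen_univ
  obtain ⟨_, ⟨U : X.Opens, hU, rfl⟩, hxU, hUW⟩ :=
    X.isBasis_affineOpens.exists_subset_of_mem_open (a := x) (u := ↑(f ⁻¹ᵁ W)) hyW (f ⁻¹ᵁ W).2
  algebraize [(f.appLE W U hUW).hom]
  haveI : Algebra.Etale Γ(Y, W) Γ(X, U) :=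
    RingHom.etale_algebraMap.mp (f.etale_appLE hW hU hUW)
  letI := Y.presheaf.algebra_section_stalk ⟨f x, hyW⟩
  haveI := hW.isLocalization_stalk ⟨f x, hyW⟩
  letI := X.presheaf.algebra_section_stalk ⟨x, hxU⟩
  haveI := hU.isLocalization_stalk ⟨x, hxU⟩
  have hqp : (hU.primeIdealOf ⟨x, hxU⟩).asIdeal.comap (algebraMap Γ(Y, W) Γ(X, U)) =
      (hW.primeIdealOf ⟨f x, hyW⟩).asIdeal :=
    congr($(IsAffineOpen.comap_primeIdealOf_appLE W hW U hU hUW hxU).1)
  haveI : IsLocalization.AtPrime (Y.presheaf.stalk (f x))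
      ((hU.primeIdealOf ⟨x, hxU⟩).asIdeal.comap (algebraMap Γ(Y, W) Γ(X, U))) := by
    simpa only [hqp]
  haveI := h.1
  haveI := h.2
  exact isDomain_isIntegrallyClosed_localization (R := Γ(Y, W)) (hU.primeIdealOf ⟨x, hxU⟩).asIdeal
    (Y.presheaf.stalk (f x)) (X.presheaf.stalk x)

/-- Normality descends along faithfully flat local maps. -/
theorem normal_of_faithfullyFlat {A B : Type u} [CommRing A] [CommRing B] [Algebra A B]
    [Module.FaithfullyFlat A B] [IsDomain B] [IsIntegrallyClosed B] :
    IsDomain A ∧ IsIntegrallyClosed A := by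
  have hinj : Function.Injective (algebraMap A B) := FaithfulSMul.algebraMap_injective A B
  haveI : IsDomain A := hinj.isDomain
  refine ⟨‹_›, (isIntegrallyClosed_iff (FractionRing A)).mpr fun {x} hx => ?_⟩
  obtain ⟨a, b, hb, rfl⟩ := IsFractionRing.div_surjective (A := A) x
  have hb0 : algebraMap A B b ≠ 0 := (map_ne_zero_iff _ hinj).mpr (nonZeroDivisors.ne_zero hb)
  let g : FractionRing A →+* FractionRing B :=
    IsFractionRing.lift (g := (algebraMap B (FractionRing B)).comp (algebraMap A B))
      ((IsFractionRing.injective B (FractionRing B)).comp hinj)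
  have hg : ∀ a, g (algebraMap A (FractionRing A) a) =
      algebraMap B (FractionRing B) (algebraMap A B a) := fun a => IsFractionRing.lift_algebraMap _ _
  have hint : IsIntegral B (g (algebraMap A (FractionRing A) a / algebraMap A (FractionRing A) b)) := by
    obtain ⟨p, hp, hpx⟩ := hx
    refine ⟨p.map (algebraMap A B), hp.map _, ?_⟩
    rw [Polynomial.eval₂_map]
    have h1 := congrArg g hpx
    rw [map_zero, Polynomial.hom_eval₂] at h1
    rw [← h1]
    congr 1
    exact RingHom.ext fun a => (hg a).symm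
  obtain ⟨c, hc⟩ := IsIntegrallyClosed.algebraMap_eq_of_integral hint
  rw [map_div₀, hg, hg, eq_div_iff ((map_ne_zero_iff _ (IsFractionRing.injective B _)).mpr hb0),
    ← map_mul] at hc
  have hac : algebraMap A B a = c * algebraMap A B b := (IsFractionRing.injective B _ hc).symm
  have hmem : a ∈ Ideal.span {b} := by
    rw [← Ideal.comap_map_eq_self_of_faithfullyFlat (B := B) (Ideal.span {b}), Ideal.mem_comap, hac]
    exact Ideal.mul_mem_left _ _ (Ideal.mem_map_of_mem _ (Ideal.mem_span_singleton_self b))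
  obtain ⟨d, rfl⟩ := Ideal.mem_span_singleton'.mp hmem
  exact ⟨d, by rw [map_mul, mul_div_cancel_right₀ _
    (IsFractionRing.to_map_ne_zero_of_mem_nonZeroDivisors hb)]⟩

theorem normal_stalk_of_etale_iff {X Y : Scheme.{u}} (f : X ⟶ Y) [Etale f] (x : X) :
    (IsDomain (X.presheaf.stalk x) ∧ IsIntegrallyClosed (X.presheaf.stalk x)) ↔
      (IsDomain (Y.presheaf.stalk (f x)) ∧ IsIntegrallyClosed (Y.presheaf.stalk (f x))) := by
  refine ⟨fun ⟨h1, h2⟩ => ?_, normal_stalk_of_etale f x⟩
  letI := (f.stalkMap x).hom.toAlgebra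
  haveI : Module.Flat (Y.presheaf.stalk (f x)) (X.presheaf.stalk x) := Flat.stalkMap f x
  haveI : IsLocalHom (algebraMap (Y.presheaf.stalk (f x)) (X.presheaf.stalk x)) :=
    inferInstanceAs (IsLocalHom (f.stalkMap x).hom)
  haveI : Module.FaithfullyFlat (Y.presheaf.stalk (f x)) (X.presheaf.stalk x) :=
    Module.FaithfullyFlat.of_flat_of_isLocalHom
  exact normal_of_faithfullyFlat (B := X.presheaf.stalk x)

end Groth.Agent.Unibranch
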