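import Mathlib
import Groth.Agent.Unibranch.Unram

set_option autoImplicit false
set_option backward.isDefEq.respectTransparency false
set_option backward.defeqAttrib.useBackward true
set_option linter.style.haveILetI false

/-!
# Irreducible components of schemes étale over geometrically unibranch irreducible schemes
-/

open CategoryTheory CategoryTheory.Limits AlgebraicGeometry Topology

universe u

namespace Groth.Agent.Unibranch

theorem map_max_eq_genericPoint {T Y : Scheme.{u}} (g : T ⟶ Y) [Flat g] [IrreducibleSpace ↑Y]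
    (ξ : T) (hξ : ∀ ξ', ξ' ⤳ ξ → ξ' = ξ) : g ξ = genericPoint ↑Y := by
  obtain ⟨ξ', hξ', he⟩ := Flat.generalizingMap g (genericPoint_specializes (g ξ))
  rw [← he, hξ ξ' hξ']

theorem max_of_map_eq_genericPoint {T Y : Scheme.{u}} (g : T ⟶ Y) [LocallyQuasiFinite g]
    [IrreducibleSpace ↑Y] (ξ : T) (hξ : g ξ = genericPoint ↑Y) (ξ' : T) (h : ξ' ⤳ ξ) :
    ξ' = ξ := by
  have hg' : g ξ' = g ξ := by
    have h' : g ξ' ⤳ genericPoint ↑Y := hξ ▸ h.map g.continuous
    exact ((h'.antisymm (genericPoint_specializes _)).eq).trans hξ.symm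
  haveI := isDiscrete_iff_discreteTopology.mp (g.isDiscrete_preimage_singleton (g ξ))
  exact congrArg Subtype.val (specializes_iff_eq.mp
    ((IsInducing.subtypeVal).specializes_iff (x := (⟨ξ', hg'⟩ : ↥(g ⁻¹' {g ξ})))
      (y := ⟨ξ, rfl⟩) |>.mp h))

theorem finite_minimalPrimes {T Y : Scheme.{u}} (g : T ⟶ Y) [Etale g] [IrreducibleSpace ↑Y]
    (W : Y.Opens) (U : T.Opens) (hW : IsAffineOpen W) (hU : IsAffineOpen U) (hUW : U ≤ g ⁻¹ᵁ W) :
    (minimalPrimes Γ(T, U)).Finite := by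
  rcases (U : Set T).eq_empty_or_nonempty with h | ⟨t, ht⟩
  · refine Set.Finite.subset Set.finite_empty fun P hP => ?_
    obtain ⟨a, -⟩ := exists_point_of_prime hU P hP.1.1
    exact (h ▸ a.2 : a.1 ∈ (∅ : Set T))
  have hηW : genericPoint ↑Y ∈ W := (genericPoint_specializes (g t)).mem_open W.2 (hUW ht)
  algebraize [(g.appLE W U hUW).hom]
  haveI : Algebra.Etale Γ(Y, W) Γ(T, U) :=
    RingHom.etale_algebraMap.mp (g.etale_appLE hW hU hUW)
  haveI := (hW.primeIdealOf ⟨_, hηW⟩).isPrime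
  refine (Algebra.QuasiFinite.finite_primesOver (R := Γ(Y, W))
    (hW.primeIdealOf ⟨_, hηW⟩).asIdeal).subset fun P hP => ?_
  obtain ⟨a, rfl⟩ := exists_point_of_prime hU P hP.1.1
  refine ⟨(hU.primeIdealOf a).isPrime, ⟨?_⟩⟩
  have hmax : ∀ ξ', ξ' ⤳ a.1 → ξ' = a.1 := by
    intro ξ' h
    have hξ'U : ξ' ∈ U := h.mem_open U.2 a.2
    have h1 := (primeIdealOf_le_iff hU ⟨ξ', hξ'U⟩ a).mpr h
    have h2 := le_antisymm h1 (hP.2 ⟨(hU.primeIdealOf ⟨ξ', hξ'U⟩).isPrime, bot_le⟩ h1)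
    exact (((primeIdealOf_le_iff hU a ⟨ξ', hξ'U⟩).mp h2.ge).antisymm h).eq.symm
  have h1 := map_max_eq_genericPoint g a.1 hmax
  have h2 := congr($(IsAffineOpen.comap_primeIdealOf_appLE W hW U hU hUW a.2).1)
  exact (h2.trans (congrArg (fun c => (hW.primeIdealOf c).asIdeal) (Subtype.ext h1))).symm

/-- The maximal generalisation is unique and its closure is a neighbourhood. -/
theorem eventually_specializes_of_irreducible {T Y : Scheme.{u}} (g : T ⟶ Y) [Etale g]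
    [IrreducibleSpace ↑Y] (hY : ∀ y : Y, CAlg2.IsGeomUnibranch (Y.presheaf.stalk y))
    (t η : T) (hη : η ⤳ t) (hmax : ∀ η', η' ⤳ η → η' = η) : ∀ᶠ x in 𝓝 t, η ⤳ x :=
  eventually_specializes_of_finite g (finite_minimalPrimes g) t (hY _) η hη hmax

theorem max_unique {T Y : Scheme.{u}} (g : T ⟶ Y) [Etale g] [IrreducibleSpace ↑Y]
    (hY : ∀ y : Y, CAlg2.IsGeomUnibranch (Y.presheaf.stalk y))
    (t η₁ η₂ : T) (h₁ : η₁ ⤳ t) (hm₁ : ∀ η', η' ⤳ η₁ → η' = η₁) (h₂ : η₂ ⤳ t)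
    (hm₂ : ∀ η', η' ⤳ η₂ → η' = η₂) : η₁ = η₂ := by
  obtain ⟨W, hW, hWo, htW⟩ := eventually_nhds_iff.mp
    (eventually_specializes_of_irreducible g hY t η₁ h₁ hm₁)
  exact hm₂ η₁ (hW η₂ (h₂.mem_open hWo htW))

theorem existsUnique_component {T Y : Scheme.{u}} (g : T ⟶ Y) [Etale g] [IrreducibleSpace ↑Y]
    (hY : ∀ y : Y, CAlg2.IsGeomUnibranch (Y.presheaf.stalk y)) (t : T) :
    ∃! Z, Z ∈ irreducibleComponents ↥T ∧ t ∈ Z := by
  refine ⟨_, ⟨irreducibleComponent_mem_irreducibleComponents t, mem_irreducibleComponent⟩, ?_⟩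
  rintro Z ⟨hZ, htZ⟩
  obtain ⟨ξ, hξ⟩ := QuasiSober.sober hZ.1 (isClosed_of_mem_irreducibleComponents Z hZ)
  obtain ⟨ξ₀, hξ₀⟩ := QuasiSober.sober (isIrreducible_irreducibleComponent (x := t))
    isClosed_irreducibleComponent
  have h := max_unique g hY t ξ ξ₀ (hξ.specializes htZ) (max_of_component hZ hξ)
    (hξ₀.specializes mem_irreducibleComponent)
    (max_of_component (irreducibleComponent_mem_irreducibleComponents t) hξ₀)
  exact hξ.def.symm.trans ((congrArg (fun c => closure {c}) h).trans hξ₀.def)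

theorem isOpen_component {T Y : Scheme.{u}} (g : T ⟶ Y) [Etale g] [IrreducibleSpace ↑Y]
    (hY : ∀ y : Y, CAlg2.IsGeomUnibranch (Y.presheaf.stalk y)) (Z : Set ↥T)
    (hZ : Z ∈ irreducibleComponents ↥T) :
    IsOpen Z ∧ ∃! x : T, x ∈ Z ∧ g x = genericPoint ↑Y := by
  obtain ⟨ξ, hξ⟩ := QuasiSober.sober hZ.1 (isClosed_of_mem_irreducibleComponents Z hZ)
  have hm := max_of_component hZ hξ
  refine ⟨isOpen_iff_mem_nhds.mpr fun t ht => ?_,
    ξ, ⟨hξ.mem, map_max_eq_genericPoint g ξ hm⟩, ?_⟩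
  · exact Filter.mem_of_superset
      (eventually_specializes_of_irreducible g hY t ξ (hξ.specializes ht) hm)
      fun x hx => hξ.def ▸ (hx.mem_closure)
  · rintro x ⟨hx, hxη⟩
    haveI := locallyQuasiFinite_of_etale g
    exact (max_of_map_eq_genericPoint g x hxη ξ (hξ.specializes hx)).symm

theorem locallyQuasiFinite_of_unramified {X Y : Scheme.{u}} (f : X ⟶ Y) [FormallyUnramified f]
    [LocallyOfFiniteType f] : LocallyQuasiFinite f := by
  rw [HasRingHomProperty.iff_appLE (P := @LocallyQuasiFinite)]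
  intro U V e
  algebraize [(f.appLE U V e).hom]
  haveI : Algebra.FormallyUnramified Γ(Y, U) Γ(X, V) :=
    RingHom.formallyUnramified_algebraMap.mp (f.formallyUnramified_appLE U.2 V.2 e)
  haveI : Algebra.FiniteType Γ(Y, U) Γ(X, V) :=
    RingHom.finiteType_algebraMap.mp (f.finiteType_appLE U.2 V.2 e)
  exact RingHom.quasiFinite_algebraMap.mpr inferInstance

theorem exists_generic_of_etale_nbhd {X Y : Scheme.{u}} (f : X ⟶ Y) [IrreducibleSpace ↑Y]
    (U : X.Opens) [Etale (U.ι ≫ f)] (x : X) (hx : x ∈ U) :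
    ∃ x', x' ⤳ x ∧ f x' = genericPoint ↑Y := by
  obtain ⟨a, ha, he⟩ := Flat.generalizingMap (U.ι ≫ f) (genericPoint_specializes ((U.ι ≫ f) ⟨x, hx⟩))
  exact ⟨U.ι a, ha.map U.ι.continuous, he⟩

theorem etale_and_irreducible {X Y : Scheme.{u}} (f : X ⟶ Y) [IsIntegral Y]
    (hY : ∀ y : Y, CAlg2.IsGeomUnibranch (Y.presheaf.stalk y)) [ConnectedSpace ↑X]
    [FormallyUnramified f] [LocallyOfFiniteType f] (hdom : genericPoint ↑Y ∈ Set.range f) :
    Etale f ∧ IrreducibleSpace ↑X := by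
  haveI := locallyQuasiFinite_of_unramified f
  let E : Set ↑X := {x | ∃ x', x' ⤳ x ∧ f x' = genericPoint ↑Y}
  have hloc : ∀ x ∈ E, ∃ U : X.Opens, x ∈ U ∧ Etale (U.ι ≫ f) := fun x hx =>
    exists_etale_nbhd f x (hY _) hx ⟨⊤, trivial, MorphismProperty.comp_mem _ _ _ inferInstance ‹_›⟩
  have hEo : IsOpen E := isOpen_iff_mem_nhds.mpr fun x hx => by
    obtain ⟨U, hxU, hU⟩ := hloc x hx
    haveI := hU
    exact Filter.mem_of_superset (U.2.mem_nhds hxU) fun z hz => exists_generic_of_etale_nbhd f U z hz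
  have hEc : IsClosed E := isOpen_compl_iff.mp <| isOpen_iff_mem_nhds.mpr fun x hx => by
    obtain ⟨_, ⟨W : Y.Opens, hW, rfl⟩, hyW, -⟩ :=
      Y.isBasis_affineOpens.exists_subset_of_mem_open (Set.mem_univ (f x)) isOpen_univ
    obtain ⟨_, ⟨U : X.Opens, hU, rfl⟩, hxU, hUW⟩ :=
      X.isBasis_affineOpens.exists_subset_of_mem_open (a := x) (u := ↑(f ⁻¹ᵁ W)) hyW (f ⁻¹ᵁ W).2
    haveI : IsAffine U.toScheme := hU
    haveI : IsAffine W.toScheme := hW
    have hfin : {z | z ∈ U ∧ f z = genericPoint ↑Y}.Finite := by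
      refine ((f.resLE W U hUW).finite_preimage (s := W.ι ⁻¹' {genericPoint ↑Y})
        ((Set.finite_singleton _).preimage W.ι.isOpenEmbedding.injective.injOn) |>.image
        U.ι).subset ?_
      rintro z ⟨hz, hzη⟩
      refine ⟨⟨z, hz⟩, ?_, rfl⟩
      show W.ι ((f.resLE W U hUW) ⟨z, hz⟩) = genericPoint ↑Y
      rw [← Scheme.Hom.comp_apply, Scheme.Hom.resLE_comp_ι]
      exact hzη
    refine Filter.mem_of_superset ((U.2.inter (hfin.isClosed_biUnion (f := fun z => closure {z})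
      fun _ _ => isClosed_closure).isOpen_compl).mem_nhds ⟨hxU, fun h => ?_⟩) ?_
    · simp only [Set.mem_iUnion] at h
      obtain ⟨z, hz, hzx⟩ := h
      exact hx ⟨z, specializes_iff_mem_closure.mpr hzx, hz.2⟩
    · rintro z ⟨hzU, hz⟩ ⟨z', hz', hz'η⟩
      exact hz (Set.mem_biUnion (show z' ∈ {z | z ∈ U ∧ f z = genericPoint ↑Y} from
        ⟨hz'.mem_open U.2 hzU, hz'η⟩) hz'.mem_closure)
  have hEu : E = Set.univ := IsClopen.eq_univ ⟨hEc, hEo⟩
    (let ⟨x, hx⟩ := hdom; ⟨x, x, specializes_rfl, hx⟩)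
  have het : Etale f := by
    choose U hxU hU using fun x : X => hloc x (hEu ▸ Set.mem_univ x)
    rw [IsZariskiLocalAtSource.iff_of_iSup_eq_top (P := @Etale) U
      (top_le_iff.mp fun x _ => TopologicalSpace.Opens.mem_iSup.mpr ⟨x, hxU x⟩)]
    exact hU
  refine ⟨het, ?_⟩
  haveI := het
  obtain ⟨x⟩ := (inferInstance : Nonempty ↑X)
  have hZ := irreducibleComponent_mem_irreducibleComponents x
  have hu := IsClopen.eq_univ (s := irreducibleComponent x) ⟨isClosed_irreducibleComponent,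
    (isOpen_component f hY _ hZ).1⟩ ⟨x, mem_irreducibleComponent⟩
  refine (irreducibleSpace_def _).mpr ?_
  rw [Set.top_eq_univ, ← hu]
  exact isIrreducible_irreducibleComponent

end Groth.Agent.Unibranch
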